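import Groth.Agent.L25.TorLift.TorusCov
import Groth.Agent.L25.CentralLift.Hom
import Groth.Agent.L25.Central
import Groth.Agent.L25.Bridge.Lift
import Groth.Agent.L25.MultTypeBC
import Groth.Agent.L25.Locus.Normalizer

/-!
# Central homomorphisms from tori lift uniquely along nilpotent ideals
-/

set_option autoImplicit false
universe u

open CategoryTheory CategoryTheory.Limits MonoidalCategory CartesianMonoidalCategory MonObj GrpObj
open AlgebraicGeometry TensorProduct WithConv
open Groth.L25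

set_option linter.style.haveILetI false
set_option backward.isDefEq.respectTransparency.types false

noncomputable section

namespace Groth.L25.TorLift

variable {A : Type u} [CommRing A] {J : Ideal A}

theorem surjective_fst (hJ : IsNilpotent J) (X : Over (Spec (CommRingCat.of A))) :
    Surjective (pullback.fst X.hom (bi J)) :=
  haveI := CentralLift.surjective_of_nil J fun x hx => by
    obtain ⟨n, hn⟩ := hJ
    refine ⟨n, ?_⟩
    have h := Ideal.pow_mem_pow hx n
    rwa [hn, Ideal.zero_eq_bot, Ideal.mem_bot] at h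
  MorphismProperty.pullback_fst (P := @Surjective) X.hom (bi J) inferInstance

theorem inv_of_isUnit {R : Type u} [CommRing R] {n : ℕ} (h : IsUnit (n : R)) :
    CentralLift.Inv n (Spec (CommRingCat.of R)) := fun K _ ξ h0 => by
  have h' := h.map (Spec.preimage ξ).hom
  rw [map_natCast] at h'
  exact h'.ne_zero h0

variable {G : Over (Spec (CommRingCat.of A))} [GrpObj G]

theorem good_of_pow_eq_one {R : Type u} [CommRing R] [Algebra A R] {n : ℕ} (hn : IsUnit (n : R))
    {y : Xp A R ⟶ G} (hy : y ^ n = 1) : CentralLift.Good y := fun z =>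
  ⟨⊤, n, trivial, (inv_of_isUnit hn).comp (⊤ : (Xp A R).left.Opens).ι, by
    rw [← MonObj.comp_pow, hy, MonObj.comp_one]⟩

variable {B : Type u} [CommRing B] [HopfAlgebra A B] {N : Set ℕ}

theorem xm_pow_eq_one {R : Type u} [CommRing R] [Algebra A R] {x : B →ₐ[A] R} {n : ℕ}
    (h : (toConv x) ^ n = 1) : (xm x : Xp A R ⟶ Xp A B) ^ n = 1 := by
  rw [← xm_pow, h, xm_one]

theorem good_comp {T : Over (Spec (CommRingCat.of A))} [GrpObj T] (u : T ⟶ G) [IsMonHom u] {R : Type u} [CommRing R]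
    [Algebra A R] {n : ℕ} (hn : IsUnit (n : R)) {t : Xp A R ⟶ T} (ht : t ^ n = 1) : CentralLift.Good (t ≫ u) :=
  good_of_pow_eq_one hn (by rw [← MonObj.pow_comp, ht, MonObj.one_comp])

variable [Flat G.hom] [LocallyOfFinitePresentation G.hom]

theorem exists_central_hom (hc : Cov A B N) (hJ : IsNilpotent J) [Coalgebra.IsCocomm A B]
    (u₀ : Red.bc (bi J) (Xp A B) ⟶ Red.bc (bi J) G) [IsMonHom u₀]
    (hc₀ : ∀ (W : Over (Spec (CommRingCat.of (A ⧸ J)))) (x : W ⟶ Red.bc (bi J) (Xp A B)) (g : W ⟶ Red.bc (bi J) G),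
      (x ≫ u₀) * g = g * (x ≫ u₀)) :
    ∃ u : Xp A B ⟶ G, IsMonHom u ∧ red J u = u₀ ∧
      (∀ (X : Over (Spec (CommRingCat.of A))) (x : X ⟶ Xp A B) (g : X ⟶ G), (x ≫ u) * g = g * (x ≫ u)) ∧
      ∀ u' : Xp A B ⟶ G, IsMonHom u' → red J u' = u₀ → u' = u := by
  classical
  have hsurj := surjective_fst hJ
  have key : ∀ (R : Type u) [CommRing R] [Algebra A R] (x : B →ₐ[A] R), Adm N x →
      ∃ y : Xp A R ⟶ G, CentralLift.Good y ∧ red J y = red J (xm x) ≫ u₀ := fun R _ _ x hx => by
    obtain ⟨n, -, hu, hp⟩ := hx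
    haveI := hsurj (Xp A R)
    refine CentralLift.exists_good_lift (bi J) (red J (xm x) ≫ u₀)
      (fun W w g => by rw [← Category.assoc]; exact hc₀ W _ g)
      fun z => ⟨⊤, n, trivial, (inv_of_isUnit hu).comp (⊤ : (Xp A R).left.Opens).ι, ?_⟩
    rw [← Category.assoc, ← red_comp, ← MonObj.pow_comp]
    show (((Over.pullback (bi J)).homMonoidHom (CentralLift.restrι (Xp A R) ⊤ ≫ xm x)) ^ n) ≫ u₀ = 1
    rw [← map_pow, ← MonObj.comp_pow, xm_pow_eq_one hp, MonObj.comp_one, map_one, MonObj.one_comp]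
  let V : ∀ (R : Type u) [CommRing R] [Algebra A R], (B →ₐ[A] R) → (Xp A R ⟶ G) :=
    fun R _ _ x => if h : Adm N x then (key R x h).choose else 1
  have hV : ∀ (R : Type u) [CommRing R] [Algebra A R] (x : B →ₐ[A] R), Adm N x →
      CentralLift.Good (V R x) ∧ red J (V R x) = red J (xm x) ≫ u₀ := fun R _ _ x hx => by
    simp only [V, dif_pos hx]
    exact (key R x hx).choose_spec
  have hcm : ∀ (R : Type u) [CommRing R] [Algebra A R] (x : B →ₐ[A] R) (y : Xp A R ⟶ G),
      red J y = red J (xm x) ≫ u₀ → CentralLift.CentralMod (bi J) y := fun R _ _ x y hy Z z g => by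
    rw [show (Over.pullback (bi J)).map y = red J (xm x) ≫ u₀ from hy, ← Category.assoc]
    exact hc₀ Z _ g
  obtain ⟨u, hu, hred, hux⟩ := exists_hom hc hJ u₀ V (fun R _ _ x hx => (hV R x hx).2)
    (fun R R' _ _ _ _ h x hx => by
      haveI := hsurj (Xp A R')
      have h1 : red J (xm h ≫ V R x) = red J (xm (h.comp x)) ≫ u₀ := by
        rw [red_comp, (hV R x hx).2, ← Category.assoc, ← red_comp, ← xm_comp]
      exact CentralLift.ext_of_good (bi J) ((hV R x hx).1.comp _) (hV R' _ (hx.comp h)).1 (hcm R' _ _ h1)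
        (h1.trans (hV R' _ (hx.comp h)).2.symm))
    (fun R _ _ x y hx hy => by
      haveI := hsurj (Xp A R)
      have hxy : Adm N (toConv x * toConv y).ofConv := by
        obtain ⟨a, ha, hua, hxa⟩ := hx
        obtain ⟨b, hb, hub, hyb⟩ := hy
        refine ⟨a * b, hc.mul a ha b hb, by rw [Nat.cast_mul]; exact hua.mul hub, ?_⟩
        rw [toConv_ofConv, mul_pow, pow_mul, hxa, one_pow, _root_.one_mul, mul_comm, pow_mul, hyb, one_pow]
      have hcom : V R x * V R y = V R y * V R x :=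
        CentralLift.commute_of_good (bi J) (hV R x hx).1 (hcm R x _ (hV R x hx).2) _
      have h1 : red J (V R x * V R y) = red J (xm (toConv x * toConv y).ofConv) ≫ u₀ := by
        rw [red_mul, (hV R x hx).2, (hV R y hy).2, xm_mul, red_mul (G := Xp A B), MonObj.mul_comp]
      exact CentralLift.ext_of_good (bi J) (hV R _ hxy).1 ((hV R x hx).1.mul (hV R y hy).1 hcom)
        (hcm R _ _ (hV R _ hxy).2) ((hV R _ hxy).2.trans h1.symm))
  haveI := hu
  refine ⟨u, hu, hred, ?_, fun u' hu' h' => ?_⟩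
  · have aff : ∀ (R : Type u) [CommRing R] [Algebra A R] (x : B →ₐ[A] R) (g : Xp A R ⟶ G),
        (xm x ≫ u) * g = g * (xm x ≫ u) := fun R _ _ x g => by
      let i₁ : R →ₐ[A] R ⊗[A] B := Algebra.TensorProduct.includeLeft
      let i₂ : B →ₐ[A] R ⊗[A] B := Algebra.TensorProduct.includeRight
      let w := xm i₂ ≫ u
      let g' := xm i₁ ≫ g
      have h2 : w * g' = g' * w := by
        refine ext_ev hc hJ _ _ ?_ fun R' _ _ ρ y hy => ?_
        · rw [red_mul, red_mul, red_comp, hred]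
          exact hc₀ _ _ _
        · haveI := hsurj (Xp A R')
          have e : xm (ev ρ y) ≫ xm i₂ = xm y := by
            rw [← xm_comp]; congr 1; exact AlgHom.ext fun c => by simp [ev, i₂]
          rw [MonObj.comp_mul, MonObj.comp_mul, show xm (ev ρ y) ≫ w = V R' y by
            rw [← Category.assoc, e, hux R' y hy]]
          exact CentralLift.commute_of_good (bi J) (hV R' y hy).1 (hcm R' y _ (hV R' y hy).2) _
      have h3 := congrArg (xm (ev (AlgHom.id A R) x) ≫ ·) h2
      have e2 : xm (ev (AlgHom.id A R) x) ≫ xm i₂ = xm x := by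
        rw [← xm_comp]; congr 1; exact AlgHom.ext fun c => by simp [ev, i₂]
      have e1 : xm (ev (AlgHom.id A R) x) ≫ xm i₁ = 𝟙 (Xp A R) := by
        rw [← xm_comp]
        apply Over.OverMorphism.ext
        show Spec.map _ = 𝟙 _
        rw [← Spec.map_id]
        congr 1
        exact CommRingCat.hom_ext (RingHom.ext fun c => by simp [ev, i₁])
      simp only [MonObj.comp_mul, w, g'] at h3
      rwa [← Category.assoc, e2, ← Category.assoc, e1, Category.id_comp] at h3
    intro X x g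
    refine CentralLift.eq_of_immersions fun z => ?_
    obtain ⟨_, ⟨W, hW, rfl⟩, hzW, -⟩ := X.left.isBasis_affineOpens.exists_subset_of_mem_open
      (Set.mem_univ z) isOpen_univ
    let R := Γ(X.left, W)
    letI : Algebra A R := (Spec.preimage (R := CommRingCat.of A) (S := R) (hW.fromSpec ≫ X.hom)).hom.toAlgebra
    let f : Xp A R ⟶ X := Over.homMk hW.fromSpec (by
      exact (Spec.map_preimage (R := CommRingCat.of A) (S := R) (hW.fromSpec ≫ X.hom)).symm)
    refine ⟨_, f, inferInstanceAs (IsOpenImmersion hW.fromSpec), ?_, ?_⟩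
    · show z ∈ Set.range hW.fromSpec
      rw [hW.range_fromSpec]
      exact hzW
    · obtain ⟨y, hy⟩ := exists_xm (f ≫ x)
      rw [MonObj.comp_mul, MonObj.comp_mul, ← Category.assoc, ← hy]
      exact aff _ y _
  · haveI := hu'
    refine ext_adm hc hJ _ _ (h'.trans hred.symm) fun R _ _ x hx => ?_
    haveI := hsurj (Xp A R)
    obtain ⟨n, hn, hun, hp⟩ := hx
    have h1 : red J (xm x ≫ u') = red J (xm x) ≫ u₀ := by rw [red_comp, h']
    refine CentralLift.ext_of_good (bi J) (good_comp u' hun (xm_pow_eq_one hp)) (good_comp u hun (xm_pow_eq_one hp))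
      (hcm R x _ h1) (h1.trans ?_)
    show _ = red J (xm x ≫ u)
    rw [red_comp, hred]

/-- a lift of a monomorphism is a monomorphism -/
theorem mono_of_red {X Y : Over (Spec (CommRingCat.of A))} (hJ : IsNilpotent J) [LocallyOfFiniteType X.hom]
    (u : X ⟶ Y) [Mono (red J u)] : Mono u := by
  let sq := (Groth.L08.MulEtale.isPullback_map (bi J) u)
  haveI : LocallyOfFiniteType (u.left ≫ Y.hom) := by rw [Over.w u]; infer_instance
  haveI : LocallyOfFiniteType u.left := locallyOfFiniteType_of_comp u.left Y.hom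
  haveI : Mono (red J u).left := inferInstanceAs (Mono ((Over.forget _).map (red J u)))
  haveI : Surjective (pullback.fst X.hom (bi J)) := surjective_fst hJ X
  haveI : FormallyUnramified (red J u).left := inferInstance
  have hloc : ∀ x : X.left, Groth.L05.Point.Nhd @FormallyUnramified u.left x := fun x => by
    obtain ⟨z, rfl⟩ := (pullback.fst X.hom (bi J)).surjective x
    refine Groth.L05.Point.nhd_formallyUnramified_of_isPullback sq.flip (z := z) ⟨⊤, trivial, ?_⟩
    infer_instance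
  choose W hW hU using hloc
  haveI : FormallyUnramified u.left := IsZariskiLocalAtSource.of_iSup_eq_top (P := @FormallyUnramified) W
    (top_le_iff.1 fun x _ => TopologicalSpace.Opens.mem_iSup.2 ⟨x, hW x⟩) hU
  let Δ := pullback.diagonal u.left
  haveI : Surjective Δ := by
    refine ⟨fun w => ?_⟩
    let p₁ := pullback.fst u.left u.left
    let p₂ := pullback.snd u.left u.left
    haveI : Surjective (pullback.fst (p₁ ≫ X.hom) (bi J)) :=
      surjective_fst hJ (Over.mk (p₁ ≫ X.hom))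
    obtain ⟨w₀, hw₀⟩ := (pullback.fst (p₁ ≫ X.hom) (bi J)).surjective w
    let Z : Over (Spec (CommRingCat.of A)) := Over.mk (p₁ ≫ X.hom)
    let a : Z ⟶ X := Over.homMk p₁ rfl
    let b : Z ⟶ X := Over.homMk p₂ (by
      show p₂ ≫ X.hom = p₁ ≫ X.hom
      rw [← Over.w u, ← Category.assoc, ← Category.assoc, pullback.condition])
    have hab : red J a = red J b := by
      rw [← cancel_mono (red J u), ← red_comp, ← red_comp,
        show a ≫ u = b ≫ u from Over.OverMorphism.ext pullback.condition]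
    refine ⟨p₁ w, ?_⟩
    have h1 : pullback.fst (p₁ ≫ X.hom) (bi J) ≫ p₁ = pullback.fst (p₁ ≫ X.hom) (bi J) ≫ p₂ := by
      have := congrArg (fun m => m.left ≫ pullback.fst X.hom (bi J)) hab
      simp only [red_left_fst] at this
      exact this
    have h2 : pullback.fst (p₁ ≫ X.hom) (bi J) ≫ p₁ ≫ Δ = pullback.fst (p₁ ≫ X.hom) (bi J) := by
      apply pullback.hom_ext
      · show (_ ≫ _ ≫ Δ) ≫ p₁ = _ ≫ p₁
        simp [Δ, p₁]
      · show (_ ≫ _ ≫ Δ) ≫ p₂ = _ ≫ p₂
        simp only [Category.assoc, Δ, p₂, pullback.diagonal_snd, Category.comp_id]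
        exact h1
    rw [← hw₀, ← Scheme.Hom.comp_apply, ← Scheme.Hom.comp_apply]
    exact congrArg (fun m => m w₀) h2
  haveI : Epi Δ.base := (TopCat.epi_iff_surjective _).2 Δ.surjective
  haveI : IsIso Δ := IsOpenImmersion.isIso Δ
  haveI : Mono u.left := (pullback.isIso_diagonal_iff u.left).1 ‹_›
  exact Over.mono_of_mono_left u

theorem isTorus_of_iso {S : Scheme.{u}} {H H' : Over S} [GrpObj H] [GrpObj H'] (e : Grp.mk H ≅ Grp.mk H')
    (hH : Red.IsTorus H) : Red.IsTorus H' := by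
  obtain ⟨S', f, hflat, hsurj, hqc, hloc⟩ := hH
  refine ⟨S', f, hflat, hsurj, hqc, fun s => ?_⟩
  obtain ⟨W, hsW, r, ⟨d⟩⟩ := hloc s
  exact ⟨W, hsW, r, ⟨((Over.pullback (W.ι ≫ f)).mapGrp.mapIso e).symm ≪≫ d⟩⟩

/-- a torus is the spectrum of a commutative cocommutative Hopf algebra -/
theorem exists_model (T : Over (Spec (CommRingCat.of A))) [GrpObj T] (hT : Red.IsTorus T) :
    ∃ (B : Type u) (_ : CommRing B) (_ : HopfAlgebra A B), Coalgebra.IsCocomm A B ∧ Red.IsTorus (Xp A B) ∧
      ∃ e : Xp A B ≅ T, IsMonHom e.hom ∧ IsMonHom e.inv := by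
  have hm := Locus.isMultTypeFT_of_isTorus hT
  haveI := Central.isAffineHom_of_multTypeFT hm
  haveI : IsAffine T.left := isAffine_of_isAffineHom T.hom
  obtain ⟨B, _, _, ⟨e₀⟩⟩ := Bridge.exists_hopf T
  have hT' := isTorus_of_iso e₀ hT
  refine ⟨B, inferInstance, inferInstance,
    MultType.isCocomm (Bridge.isMultType_of_locally B (Bridge.locally_of_ft (Locus.isMultTypeFT_of_isTorus hT'))), hT',
    ⟨e₀.inv.hom.hom, e₀.hom.hom.hom, congr($(e₀.inv_hom_id).hom.hom), congr($(e₀.hom_inv_id).hom.hom)⟩, ?_, ?_⟩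
  · exact e₀.inv.hom.isMonHom_hom
  · exact e₀.hom.hom.isMonHom_hom

/-- tori with isomorphic reductions are isomorphic -/
theorem exists_torus_iso (hJ : IsNilpotent J) (N : Set ℕ) (hmul : ∀ a ∈ N, ∀ b ∈ N, a * b ∈ N)
    (qs : Finset ℕ) (hq : ∀ q ∈ qs, 1 < q ∧ ∀ k, q ^ k ∈ N)
    (hcov : ∀ p : PrimeSpectrum A, ∃ q ∈ qs, (q : A) ∉ p.asIdeal)
    {B' : Type u} [CommRing B'] [HopfAlgebra A B'] [Coalgebra.IsCocomm A B] [Coalgebra.IsCocomm A B']
    (hT : Red.IsTorus (Xp A B)) (hT' : Red.IsTorus (Xp A B'))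
    (ε : Red.bc (bi J) (Xp A B) ≅ Red.bc (bi J) (Xp A B')) [IsMonHom ε.hom] :
    ∃ φ : Xp A B ≅ Xp A B', IsMonHom φ.hom ∧ red J φ.hom = ε.hom := by
  have hm := Locus.isMultTypeFT_of_isTorus hT
  have hm' := Locus.isMultTypeFT_of_isTorus hT'
  haveI : Flat (Xp A B).hom := Bridge.flat_of_locally (Bridge.locally_of_ft hm)
  haveI : Flat (Xp A B').hom := Bridge.flat_of_locally (Bridge.locally_of_ft hm')
  haveI : LocallyOfFinitePresentation (Xp A B).hom := Locus.lfp_of_multTypeFT hm
  haveI : LocallyOfFinitePresentation (Xp A B').hom := Locus.lfp_of_multTypeFT hm'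
  have c := cov_of_torus hT N hmul qs hq hcov
  have c' := cov_of_torus hT' N hmul qs hq hcov
  have hcom := fun W x g => Central.mul_comm_of_multTypeFT (MultTypeBC.isMultTypeFT_bc hm (bi J)) (Y := W) x g
  have hcom' := fun W x g => Central.mul_comm_of_multTypeFT (MultTypeBC.isMultTypeFT_bc hm' (bi J)) (Y := W) x g
  haveI : IsMonHom ε.inv := inferInstance
  obtain ⟨φ, hφ, hφr, -, -⟩ := exists_central_hom c hJ ε.hom (fun W x g => hcom' W _ g)
  obtain ⟨ψ, hψ, hψr, -, -⟩ := exists_central_hom c' hJ ε.inv (fun W x g => hcom W _ g)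
  haveI := hφ
  haveI := hψ
  obtain ⟨w, -, -, -, huniq⟩ := exists_central_hom c hJ (𝟙 (Red.bc (bi J) (Xp A B))) (fun W x g => hcom W _ g)
  obtain ⟨w', -, -, -, huniq'⟩ := exists_central_hom c' hJ (𝟙 (Red.bc (bi J) (Xp A B'))) (fun W x g => hcom' W _ g)
  have hid : ∀ (T : Over (Spec (CommRingCat.of A))), red J (𝟙 T) = 𝟙 _ := fun T => (Over.pullback (bi J)).map_id T
  refine ⟨⟨φ, ψ, ?_, ?_⟩, hφ, hφr⟩
  · rw [huniq (φ ≫ ψ) inferInstance (by rw [red_comp, hφr, hψr, Iso.hom_inv_id]),
      huniq (𝟙 _) inferInstance (hid _)]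
  · rw [huniq' (ψ ≫ φ) inferInstance (by rw [red_comp, hφr, hψr, Iso.inv_hom_id]),
      huniq' (𝟙 _) inferInstance (hid _)]

end Groth.L25.TorLift
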