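import Groth.Agent.L25.TorLift.Main
import Groth.Agent.L25.Bridge.MultType
import Groth.Agent.L25.Char.AdicConnected
import Groth.Agent.L25.Locus.FixedConn
import Groth.Agent.L25.TorusTorsion

/-!
# Tori have coverings by splittings with enough torsion
-/

set_option autoImplicit false
universe u

open CategoryTheory CategoryTheory.Limits MonoidalCategory CartesianMonoidalCategory AlgebraicGeometry TensorProduct

set_option linter.style.haveILetI false
set_option backward.isDefEq.respectTransparency.types false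

noncomputable section

namespace Groth.L25.TorLift

variable {A : Type u} [CommRing A]

/-- the character lattice -/
abbrev Lat (r : ℕ) : Type u := Multiplicative (ULift.{u} (Fin r → ℤ))

theorem separated_lat (r q : ℕ) (hq : 1 < q) : Separated (Lat.{u} r) q := by
  classical
  intro s
  let d : Lat.{u} r × Lat.{u} r → Fin r → ℕ := fun p i =>
    ((Multiplicative.toAdd p.1).down i - (Multiplicative.toAdd p.2).down i).natAbs
  obtain ⟨k, hk⟩ : ∃ k, ∀ p ∈ s ×ˢ s, ∀ i, d p i < q ^ k := by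
    refine ⟨(s ×ˢ s).sup fun p => Finset.univ.sup (d p), fun p hp i => ?_⟩
    refine lt_of_le_of_lt ?_ (Nat.lt_pow_self hq)
    exact (Finset.le_sup (f := d p) (Finset.mem_univ i)).trans (Finset.le_sup (f := fun p => Finset.univ.sup (d p)) hp)
  refine ⟨k, fun a ha b hb hab => ?_⟩
  rw [QuotientGroup.mk'_apply, QuotientGroup.mk'_apply, QuotientGroup.eq] at hab
  obtain ⟨c, hc⟩ := hab
  refine Multiplicative.toAdd.injective (ULift.ext _ _ (funext fun i => ?_))
  have h1 := congrArg (fun x => (Multiplicative.toAdd x).down i) hc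
  simp only [powMonoidHom_apply, toAdd_pow, toAdd_mul, toAdd_inv] at h1
  simp only [ULift.smul_down, ULift.add_down, ULift.neg_down, Pi.smul_apply, Pi.add_apply, Pi.neg_apply,
    nsmul_eq_mul] at h1
  have h2 : ((q ^ k : ℕ) : ℤ) ∣ (Multiplicative.toAdd a).down i - (Multiplicative.toAdd b).down i := by
    refine ⟨-(Multiplicative.toAdd c).down i, ?_⟩
    simp at h1 ⊢
    linarith
  refine sub_eq_zero.1 (Int.eq_zero_of_dvd_of_natAbs_lt_natAbs h2 ?_)
  rw [Int.natAbs_natCast]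
  exact hk (a, b) (Finset.mem_product.2 ⟨ha, hb⟩) i

variable {B : Type u} [CommRing B] [HopfAlgebra A B]

/-- a torus is split by a finite faithfully flat family -/
theorem exists_torus_family (hT : Red.IsTorus (Bridge.P A B)) :
    ∃ (ι : Type u) (_ : Fintype ι) (T : ι → Type u) (_ : ∀ i, CommRing (T i)) (_ : ∀ i, Algebra A (T i)),
      Module.FaithfullyFlat A (∀ i, T i) ∧ ∀ i, ∃ r : ℕ,
        Nonempty (T i ⊗[A] B ≃ₐc[T i] MonoidAlgebra (T i) (Lat.{u} r)) := by
  obtain ⟨S', f, hflat, hsurj, hqc, hloc⟩ := hT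
  obtain ⟨W, hW, hWimg⟩ := hqc ⊤ (isAffineOpen_top _)
  choose U hU r e using hloc
  have key : ∀ z : S', ∃ D : S'.Opens, IsAffineOpen D ∧ z ∈ D ∧ D ≤ U z := by
    intro z
    obtain ⟨_, ⟨D, hD, rfl⟩, hz, hle⟩ := S'.isBasis_affineOpens.exists_subset_of_mem_open
      (show z ∈ U z from hU z) (U z).2
    exact ⟨D, hD, hz, hle⟩
  choose D hD hzD hDle using key
  obtain ⟨t, ht⟩ := hW.elim_finite_subcover (fun z : S' => (D z : Set S')) (fun z => (D z).2)
    (fun z _ => Set.mem_iUnion.2 ⟨z, hzD z⟩)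
  choose θ hθ using fun i : t => Spec.map_surjective ((hD i.1).fromSpec ≫ f)
  letI : ∀ i : t, Algebra A Γ(S', D i.1) := fun i => (θ i).hom.toAlgebra
  have hflat' : ∀ i : t, Module.Flat A Γ(S', D i.1) := fun i => by
    have h : Flat (Spec.map (θ i)) := by rw [hθ i]; infer_instance
    rw [HasRingHomProperty.Spec_iff (P := @Flat)] at h
    exact h
  have : Module.Flat A (∀ i : t, Γ(S', D i.1)) :=
    Module.Flat.of_linearEquiv (DFinsupp.linearEquivFunOnFintype (R := A) (M := fun i : t => Γ(S', D i.1))).symm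
  refine ⟨t, inferInstance, fun i => Γ(S', D i.1), fun _ => inferInstance, inferInstance, ?_,
    fun i => ⟨r i.1, ?_⟩⟩
  · refine Module.FaithfullyFlat.of_comap_surjective fun p => ?_
    obtain ⟨z, hz, hzp⟩ := hWimg.ge (Set.mem_univ p)
    obtain ⟨i, hi, hzi⟩ := Set.mem_iUnion₂.1 (ht hz)
    obtain ⟨q, hq⟩ := (hD i).range_fromSpec.ge hzi
    have hq' : Spec.map (θ ⟨i, hi⟩) q = p := by
      rw [hθ ⟨i, hi⟩, Scheme.Hom.comp_apply, hq]
      exact hzp
    exact ⟨PrimeSpectrum.comap (Pi.evalRingHom (fun i : t => Γ(S', D i.1)) ⟨i, hi⟩) q,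
      (PrimeSpectrum.comap_comp_apply (algebraMap A (∀ i : t, Γ(S', D i.1)))
        (Pi.evalRingHom (fun i : t => Γ(S', D i.1)) ⟨i, hi⟩) q).symm.trans hq'⟩
  · have hr : Set.range (hD i.1).fromSpec ⊆ Set.range (U i.1).ι := by
      rw [Scheme.Opens.range_ι, (hD i.1).range_fromSpec]
      exact hDle i.1
    have e1 := TrivLocus.restrictIso ((U i.1).ι ≫ f) (IsOpenImmersion.lift _ _ hr) (e i.1).some
      (show IsOpenImmersion.lift _ _ hr ≫ (U i.1).ι ≫ f = Spec.map (θ i) by
        rw [IsOpenImmersion.lift_fac_assoc, hθ i])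
    obtain ⟨φ⟩ := Bridge.exists_split (R := A) (A := B) (C := Γ(S', D i.1)) rfl e1
    exact ⟨φ.trans (Char.mapEquiv _ (AddEquiv.toMultiplicative AddEquiv.ulift.symm))⟩

/-- tori have enough torsion -/
theorem cov_of_torus (hT : Red.IsTorus (Bridge.P A B)) (N : Set ℕ) (hmul : ∀ a ∈ N, ∀ b ∈ N, a * b ∈ N)
    (qs : Finset ℕ) (hq : ∀ q ∈ qs, 1 < q ∧ ∀ k, q ^ k ∈ N)
    (hcov : ∀ p : PrimeSpectrum A, ∃ q ∈ qs, (q : A) ∉ p.asIdeal) : Cov A B N := by
  classical
  refine ⟨hmul, ?_⟩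
  obtain ⟨ι, _, T, _, _, hff, hd⟩ := exists_torus_family hT
  haveI := hff
  let S : ι × ULift.{u} qs → Type u := fun p => Localization.Away ((p.2.down.1 : ℕ) : T p.1)
  refine ⟨ι × ULift.{u} qs, inferInstance, S, fun _ => inferInstance, fun _ => inferInstance, ?_, fun p => ?_⟩
  · have hfl : ∀ i, Module.Flat A (T i) := fun i => Module.Flat.of_retract
      ((LinearMap.single A T i)) (LinearMap.proj i) (LinearMap.proj_comp_single_same A T i)
    have hfl' : ∀ p, Module.Flat A (S p) := fun p => by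
      haveI := hfl p.1
      haveI : Module.Flat (T p.1) (S p) := IsLocalization.flat (S p) (Submonoid.powers ((p.2.down.1 : ℕ) : T p.1))
      exact Module.Flat.trans A (T p.1) (S p)
    haveI : Module.Flat A (∀ p, S p) :=
      Module.Flat.of_linearEquiv (DFinsupp.linearEquivFunOnFintype (R := A) (M := S)).symm
    refine Module.FaithfullyFlat.of_comap_surjective fun p => ?_
    obtain ⟨w, hw⟩ := PrimeSpectrum.comap_surjective_of_faithfullyFlat (A := A) (B := ∀ i, T i) p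
    obtain ⟨i, hi⟩ : ∃ i, (Pi.single i 1 : ∀ i, T i) ∉ w.asIdeal := by
      by_contra hcon
      push Not at hcon
      refine w.isPrime.ne_top (Ideal.eq_top_iff_one _ |>.2 ?_)
      rw [← Finset.univ_sum_single (1 : ∀ i, T i)]
      exact sum_mem fun i _ => hcon i
    have hker : RingHom.ker (Pi.evalRingHom T i) ≤ w.asIdeal := fun x hx => by
      refine (w.isPrime.mem_or_mem ?_).resolve_left hi
      have : (Pi.single i 1 : ∀ i, T i) * x = 0 := by
        funext j
        rcases eq_or_ne j i with rfl | hj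
        · simpa using hx
        · simp [Pi.single_eq_of_ne hj]
      rw [this]
      exact zero_mem _
    obtain ⟨w', hw'⟩ : w ∈ Set.range (PrimeSpectrum.comap (Pi.evalRingHom T i)) := by
      rw [range_comap_of_surjective _ _ (Function.surjective_eval i)]
      exact hker
    obtain ⟨q, hqs, hqp⟩ := hcov p
    have hp : p = PrimeSpectrum.comap (algebraMap A (T i)) w' := by
      rw [← hw, ← hw', ← PrimeSpectrum.comap_comp_apply]; rfl
    have hqw : ((q : ℕ) : T i) ∉ w'.asIdeal := fun h => hqp (by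
      rw [hp]
      show algebraMap A (T i) (q : A) ∈ w'.asIdeal
      rwa [map_natCast])
    let j : ι × ULift.{u} qs := (i, ⟨⟨q, hqs⟩⟩)
    obtain ⟨v, hv⟩ : w' ∈ Set.range (PrimeSpectrum.comap (algebraMap (T i) (S j))) := by
      rw [PrimeSpectrum.localization_away_comap_range (S j) ((q : ℕ) : T i)]
      exact hqw
    refine ⟨PrimeSpectrum.comap (Pi.evalRingHom S j) v, ?_⟩
    rw [hp, ← hv, ← PrimeSpectrum.comap_comp_apply, ← PrimeSpectrum.comap_comp_apply]
    congr 1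
  · obtain ⟨r, ⟨e⟩⟩ := hd p.1
    obtain ⟨D, hD⟩ := exists_spl (Char.splitEquiv e (S p)).symm
    refine ⟨_, inferInstance, D, p.2.down.1, hD, separated_lat r _ (hq _ p.2.down.2).1, ?_, (hq _ p.2.down.2).2⟩
    simpa using IsLocalization.Away.algebraMap_isUnit (S := S p) ((p.2.down.1 : ℕ) : T p.1)

/-- isomorphic character groups give isomorphic diagonalisable groups -/
def dsCongr (S : Scheme.{u}) {M N : Type} [AddCommGroup M] [AddCommGroup N] (g : M ≃+ N) :
    Grp.mk (Red.DS S M) ≅ Grp.mk (Red.DS S N) :=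
  let φ : Red.DS S M ≅ Red.DS S N :=
    ⟨Red.DSmap S g.symm.toAddMonoidHom, Red.DSmap S g.toAddMonoidHom,
      by rw [TorusTorsion.DSmap_comp,
        show g.symm.toAddMonoidHom.comp g.toAddMonoidHom = AddMonoidHom.id M from AddMonoidHom.ext g.symm_apply_apply,
        TorusTorsion.DSmap_id],
      by rw [TorusTorsion.DSmap_comp,
        show g.toAddMonoidHom.comp g.symm.toAddMonoidHom = AddMonoidHom.id N from AddMonoidHom.ext g.apply_symm_apply,
        TorusTorsion.DSmap_id]⟩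
  haveI : IsMonHom φ.hom := TorusTorsion.isMonHom_DSmap S g.symm.toAddMonoidHom
  Grp.mkIso' φ

theorem addEquiv_of_ds {K : Type u} [Field K] {M N : Type} [AddCommGroup M] [AddCommGroup N]
    (e : Grp.mk (Red.DS (Spec (CommRingCat.of K)) M) ≅ Grp.mk (Red.DS (Spec (CommRingCat.of K)) N)) :
    Nonempty (M ≃+ N) := by
  obtain ⟨f⟩ := Bridge.exists_bialgEquiv ((Bridge.dsIso K M).symm ≪≫ e ≪≫ Bridge.dsIso K N)
  obtain ⟨g⟩ := MultType.type_unique (((Char.mapEquiv K (AddEquiv.toMultiplicative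
    (AddEquiv.ulift : ULift.{u} M ≃+ M))).trans f.symm).trans (Char.mapEquiv K (AddEquiv.toMultiplicative
      (AddEquiv.ulift : ULift.{u} N ≃+ N).symm)))
  exact ⟨AddEquiv.ulift.symm.trans ((MulEquiv.toAdditive g).trans AddEquiv.ulift)⟩

/-- a group of multiplicative type with toric reduction is a torus -/
theorem isTorus_of_red {J : Ideal A} (hJ : ∀ x ∈ J, IsNilpotent x) {H : Over (Spec (CommRingCat.of A))} [GrpObj H]
    (hH : SGA3x.IsMultTypeFT H) (h₀ : Red.IsTorus (Red.bc (bi J) H)) : Red.IsTorus H := by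
  obtain ⟨S', f, hflat, hsurj, hqc, hloc⟩ := hH
  refine ⟨S', f, hflat, hsurj, hqc, fun s => ?_⟩
  obtain ⟨U, hU, M, _, -, ⟨e⟩⟩ := hloc s
  let K := U.toScheme.residueField ⟨s, hU⟩
  let q : Spec (CommRingCat.of K) ⟶ U.toScheme := U.toScheme.fromSpecResidueField ⟨s, hU⟩
  obtain ⟨θ, hθ⟩ := Spec.map_surjective (q ≫ U.ι ≫ f)
  have hkill : ∀ a ∈ J, θ.hom a = 0 := fun a ha => (IsNilpotent.map (hJ a ha) θ.hom).eq_zero
  let ξ₀ : Spec (CommRingCat.of K) ⟶ Spec (CommRingCat.of (A ⧸ J)) :=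
    Spec.map (CommRingCat.ofHom (Ideal.Quotient.lift J θ.hom hkill))
  have hξ : ξ₀ ≫ bi J = q ≫ U.ι ≫ f := by
    rw [← hθ, ← Spec.map_comp]
    rfl
  obtain ⟨K', _, _, r, ⟨d⟩⟩ := Dyn.exists_field_split (Locus.isTorus_bc h₀ ξ₀)
  let π := Spec.map (CommRingCat.ofHom (algebraMap K K'))
  let e1 : Grp.mk (Red.bc π (Red.bc ξ₀ (Red.bc (bi J) H))) ≅ Grp.mk (Red.bc (π ≫ q ≫ U.ι ≫ f) H) :=
    (Over.pullback π).mapGrp.mapIso (Grp.mkIso' (ActBC.bcCompIso ξ₀ (bi J) H hξ)) ≪≫
      Grp.mkIso' (ActBC.bcCompIso π (q ≫ U.ι ≫ f) H rfl)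
  let e2 := TrivLocus.restrictIso (U.ι ≫ f) (π ≫ q) e (d := π ≫ q ≫ U.ι ≫ f) (Category.assoc _ _ _)
  obtain ⟨g⟩ := addEquiv_of_ds (e2.symm ≪≫ e1.symm ≪≫ d)
  exact ⟨U, hU, r, ⟨e ≪≫ dsCongr _ g⟩⟩

end Groth.L25.TorLift
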