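import Groth.Agent.L25.TorLift.Boot
import Mathlib.RingTheory.Flat.FaithfullyFlat.Algebra
import Mathlib.LinearAlgebra.TensorProduct.Pi
import Mathlib.LinearAlgebra.TensorProduct.Associator
import Mathlib.LinearAlgebra.DirectSum.Finsupp
import Mathlib.LinearAlgebra.TensorProduct.RightExactness
import Mathlib.RingTheory.TensorProduct.Quotient

/-!
# Coherent families on torsion points are values of one element
-/

set_option autoImplicit false
universe u

open TensorProduct WithConv

set_option linter.style.haveILetI false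

noncomputable section

namespace Groth.L25.TorLift

/-- descent of an element along a faithfully flat algebra -/
theorem exists_of_agree {A S : Type u} [CommRing A] [CommRing S] [Algebra A S] [Module.FaithfullyFlat A S]
    {M : Type u} [AddCommGroup M] [Module A M] (z : S ⊗[A] M)
    (h : LinearMap.lTensor S (TensorProduct.mk A S M 1) z = (1 : S) ⊗ₜ z) :
    ∃ m : M, (1 : S) ⊗ₜ m = z := by
  let K := LinearMap.range (TensorProduct.mk A S M 1)
  suffices hz : K.mkQ z = 0 by
    rw [Submodule.mkQ_apply, Submodule.Quotient.mk_eq_zero] at hz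
    exact hz
  refine Module.FaithfullyFlat.tensorProduct_mk_injective (A := A) (B := S) _ ?_
  have h0 : K.mkQ ∘ₗ TensorProduct.mk A S M 1 = 0 := LinearMap.range_mkQ_comp _
  have h1 := congrArg (LinearMap.lTensor S K.mkQ) h
  rw [← LinearMap.lTensor_comp_apply, h0, LinearMap.lTensor_zero, LinearMap.zero_apply,
    LinearMap.lTensor_tmul] at h1
  show (1 : S) ⊗ₜ[A] K.mkQ z = (1 : S) ⊗ₜ[A] (0 : _)
  rw [← h1, TensorProduct.tmul_zero]

variable {A B : Type u} [CommRing A] [CommRing B] [HopfAlgebra A B]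

variable (A B) in
/-- a covering by splittings on each of which some allowed integer is invertible -/
structure Cov (N : Set ℕ) : Prop where
  mul : ∀ a ∈ N, ∀ b ∈ N, a * b ∈ N
  cover : ∃ (ι : Type u) (_ : Fintype ι) (S : ι → Type u) (_ : ∀ i, CommRing (S i)) (_ : ∀ i, Algebra A (S i)),
    Module.FaithfullyFlat A (∀ i, S i) ∧ ∀ i, ∃ (Γ : Type u) (_ : CommGroup Γ) (D : Spl A B (S i) Γ) (q : ℕ),
      Function.Bijective D.E ∧ Separated Γ q ∧ IsUnit (q : S i) ∧ ∀ k, q ^ k ∈ N

variable {N : Set ℕ} {S : Type u} [CommRing S] [Algebra A S] {Γ : Type u} [CommGroup Γ]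

theorem gEv_univ (n : ℕ) (z : MonoidAlgebra S Γ) :
    gEv (A := A) MonoidAlgebra.singleOneAlgHom ((MonoidAlgebra.of S (Q Γ n)).comp (mkQ n)) z =
      MonoidAlgebra.mapDomainRingHom S (mkQ n) z := by
  induction z using MonoidAlgebra.induction_linear with
  | zero => simp
  | add p q hp hq => rw [map_add, map_add, hp, hq]
  | single γ s => simp

/-- on a splitting ring there is a value -/
theorem exists_split_value {J : Ideal A} (hJ : IsNilpotent J) {C : Type u} (P : TorData A B N J C) (f : C)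
    (hmul : ∀ a ∈ N, ∀ b ∈ N, a * b ∈ N) (D : Spl A B S Γ) (hE : Function.Bijective D.E) {q : ℕ}
    (hsep : Separated Γ q) (hqu : IsUnit (q : S)) (hqN : ∀ k, q ^ k ∈ N) :
    ∃ w : S ⊗[A] B, ∀ (R : Type u) [CommRing R] [Algebra A R] (ρ : S →ₐ[A] R) (x : B →ₐ[A] R),
      Adm N x → ev ρ x w = P.Φ R x f := by
  obtain ⟨z, hz⟩ := exists_universal_value hJ D P f hsep hqN hqu hmul
  obtain ⟨w, hw⟩ := hE.2 z
  refine ⟨w, fun R _ _ ρ x hx => ?_⟩
  obtain ⟨n, hn, hu, hp⟩ := hx
  obtain ⟨χ, hχ⟩ := (D.bij R ρ).2 (toConv x)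
  have hχ' : (D.pt ρ χ).ofConv = x := congrArg WithConv.ofConv hχ
  subst hχ'
  rw [← Spl.gEv_E, AlgHom.comp_apply, hw]
  let S' := Localization.Away (n : S)
  let σ : S →ₐ[A] S' := IsScalarTower.toAlgHom A S S'
  have hu' : IsUnit (n : S') := by
    simpa using IsLocalization.Away.algebraMap_isUnit (S := S') (n : S)
  have hqu' : IsUnit (q : S') := by simpa using hqu.map σ
  obtain ⟨z', hz'⟩ := exists_universal_value hJ (D.map σ) P f hsep hqN hqu' hmul
  have hzz : MonoidAlgebra.mapAlgHom Γ σ z = z' := eq_of_mapDomain_eq hsep fun k => by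
    rw [← gEv_univ (A := A), ← gEv_univ (A := A), ← AlgHom.comp_apply, gEv_comp_mapAlgHom]
    have hk : IsUnit ((q ^ k : ℕ) : S) := by rw [Nat.cast_pow]; exact hqu.pow k
    have hk' : IsUnit ((q ^ k : ℕ) : S') := by rw [Nat.cast_pow]; exact hqu'.pow k
    obtain ⟨m, -, -, hm⟩ := adm_univPt (D.map σ) (hqN k) hk'
    let ρu : S' →ₐ[A] MonoidAlgebra S' (Q Γ (q ^ k)) := MonoidAlgebra.singleOneAlgHom
    let χu : Γ →* MonoidAlgebra S' (Q Γ (q ^ k)) := (MonoidAlgebra.of S' (Q Γ (q ^ k))).comp (mkQ (q ^ k))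
    have hpow : (toConv ((D.map σ).pt ρu χu).ofConv) ^ (q ^ k) = 1 := by
      rw [toConv_ofConv]
      have h1 : χu ^ (q ^ k) = 1 := MonoidHom.ext fun γ => by
        rw [MonoidHom.pow_apply, MonoidHom.comp_apply, ← map_pow, mkQ_pow, map_one, MonoidHom.one_apply]
      have h2 := map_pow ((D.map σ).pt ρu) χu (q ^ k)
      rw [h1, map_one] at h2
      exact h2.symm
    rw [hz' _ ρu χu (q ^ k) (hqN k) hk' hpow, D.pt_map σ ρu χu]
    refine hz _ _ χu (q ^ k) (hqN k) hk ?_
    rw [← D.pt_map σ ρu χu]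
    exact hpow
  obtain ⟨ρ', hρ'⟩ : ∃ ρ' : S' →ₐ[A] R, ρ'.comp σ = ρ := by
    have hu1 : ∀ y : Submonoid.powers (n : S), IsUnit (ρ (y : S)) := by
      rintro ⟨_, m, rfl⟩
      simpa using hu.pow m
    let g : S' →+* R := IsLocalization.lift (M := Submonoid.powers (n : S)) (g := (ρ : S →+* R)) hu1
    refine ⟨⟨g, fun a => ?_⟩, AlgHom.ext fun s => IsLocalization.lift_eq _ s⟩
    rw [IsScalarTower.algebraMap_apply A S S']
    exact (IsLocalization.lift_eq _ _).trans (ρ.commutes a)
  rw [← hρ', ← gEv_comp_mapAlgHom, AlgHom.comp_apply, hzz]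
  have := hz' R ρ' χ n hn hu' (by rw [D.pt_map σ ρ' χ, hρ']; exact hp)
  rw [this, D.pt_map σ ρ' χ]

/-- the comparison map over an algebra -/
theorem sep_split (D : Spl A B S Γ) (hE : Function.Bijective D.E) {q : ℕ} (hsep : Separated Γ q)
    (hqu : IsUnit (q : S)) (hqN : ∀ k, q ^ k ∈ N) (L : Type u) [CommRing L] [Algebra A L] (z : L ⊗[A] B)
    (h : ∀ (R : Type u) [CommRing R] [Algebra A R] (ρ : L →ₐ[A] R) (x : B →ₐ[A] R), Adm N x → ev ρ x z = 0) :
    LinearMap.lTensor L (TensorProduct.mk A S B 1) z = 0 := by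
  classical
  let S' := L ⊗[A] S
  let σ : S →ₐ[A] S' := Algebra.TensorProduct.includeRight
  let D' := D.map σ
  let Θ : L ⊗[A] B →ₐ[A] MonoidAlgebra S' Γ :=
    Algebra.TensorProduct.lift (MonoidAlgebra.singleOneAlgHom.comp Algebra.TensorProduct.includeLeft) D'.ψ
      fun _ _ => Commute.all _ _
  have hΘ : Θ z = 0 := eq_of_mapDomain_eq hsep fun k => by
    rw [map_zero, ← gEv_univ (A := A), ← AlgHom.comp_apply]
    have hu : IsUnit ((q ^ k : ℕ) : S') := by
      rw [Nat.cast_pow]
      have : IsUnit (q : S') := by simpa using hqu.map σ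
      exact this.pow k
    have he : (gEv MonoidAlgebra.singleOneAlgHom ((MonoidAlgebra.of S' (Q Γ (q ^ k))).comp (mkQ (q ^ k)))).comp Θ =
        ev ((MonoidAlgebra.singleOneAlgHom).comp Algebra.TensorProduct.includeLeft) (univPt D' (q ^ k)) :=
      Algebra.TensorProduct.ext' fun l b => by simp [Θ, ev, univPt, Spl.pt_ofConv]; rfl
    rw [he]
    exact h _ _ _ (adm_univPt D' (hqN k) hu)
  let eA : S ⊗[A] B ≃ₗ[A] MonoidAlgebra S Γ := (AlgEquiv.ofBijective D.E hE).toLinearEquiv
  let e2 : L ⊗[A] (S ⊗[A] B) ≃ₗ[A] (Γ →₀ L ⊗[A] S) :=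
    (TensorProduct.congr (LinearEquiv.refl A L) (eA ≪≫ₗ MonoidAlgebra.coeffLinearEquiv A)) ≪≫ₗ
      TensorProduct.finsuppRight A A L S Γ
  refine e2.injective ?_
  rw [map_zero]
  have key : e2 (LinearMap.lTensor L (TensorProduct.mk A S B 1) z) = MonoidAlgebra.coeff (Θ z) := by
    clear hΘ h
    induction z using TensorProduct.induction_on with
    | zero => simp
    | add x y hx hy => simp only [map_add, hx, hy, MonoidAlgebra.coeff_add]
    | tmul l b =>
      have hb : D.E ((1 : S) ⊗ₜ b) = D.ψ b := by simp [Spl.E, ← MonoidAlgebra.one_def]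
      ext γ
      rw [LinearMap.lTensor_tmul]
      show TensorProduct.finsuppRight A A L S Γ (l ⊗ₜ MonoidAlgebra.coeff (D.E ((1 : S) ⊗ₜ b))) γ = _
      rw [TensorProduct.finsuppRight_apply_tmul_apply, hb]
      simp [Θ, D', Spl.map, σ, S']
  rw [key, hΘ, MonoidAlgebra.coeff_zero]

/-- torsion points separate -/
theorem Cov.sep (hc : Cov A B N) (L : Type u) [CommRing L] [Algebra A L] (z : L ⊗[A] B)
    (h : ∀ (R : Type u) [CommRing R] [Algebra A R] (ρ : L →ₐ[A] R) (x : B →ₐ[A] R), Adm N x → ev ρ x z = 0) :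
    z = 0 := by
  classical
  obtain ⟨ι, _, S, _, _, hff, hs⟩ := hc.cover
  haveI := hff
  refine Module.FaithfullyFlat.tensorProduct_mk_injective (A := A) (B := ∀ i, S i) _ ?_
  refine (TensorProduct.piLeft (R := A) (N := L ⊗[A] B) (M := S)).injective ?_
  ext i
  obtain ⟨Γ, _, D, q, hE, hsep, hqu, hqN⟩ := hs i
  have h1 := sep_split D hE hsep hqu hqN L z h
  have h2 : ∀ y : L ⊗[A] B, TensorProduct.leftComm A (S i) L B ((1 : S i) ⊗ₜ y) =
      LinearMap.lTensor L (TensorProduct.mk A (S i) B 1) y := fun y => by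
    induction y using TensorProduct.induction_on with
    | zero => simp
    | tmul l b => simp
    | add p q hp hq => simp only [TensorProduct.tmul_add, map_add, hp, hq]
  have h3 : ((1 : S i) ⊗ₜ[A] z) = 0 := (TensorProduct.leftComm A (S i) L B).injective (by rw [h2, h1, map_zero])
  simpa using h3

theorem Cov.sep_id (hc : Cov A B N) (b : B)
    (h : ∀ (R : Type u) [CommRing R] [Algebra A R] (x : B →ₐ[A] R), Adm N x → x b = 0) : b = 0 := by
  have := hc.sep A ((1 : A) ⊗ₜ b) fun R _ _ ρ x hx => by simp [ev, h R x hx]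
  simpa using congrArg (TensorProduct.lid A B) this

theorem Cov.sep_mod (hc : Cov A B N) (J : Ideal A) (b : B)
    (h : ∀ (R : Type u) [CommRing R] [Algebra A R] (x : B →ₐ[A] R), Adm N x →
      (∀ a ∈ J, algebraMap A R a = 0) → x b = 0) : b ∈ J.map (algebraMap A B) := by
  have h0 := hc.sep (A ⧸ J) ((1 : A ⧸ J) ⊗ₜ b) fun R _ _ ρ x hx => by
    have : ∀ a ∈ J, algebraMap A R a = 0 := fun a ha => by
      rw [← ρ.commutes, Ideal.Quotient.algebraMap_eq, Ideal.Quotient.eq_zero_iff_mem.2 ha, map_zero]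
    simp [ev, h R x hx this]
  let g : (A ⧸ J) ⊗[A] B →ₐ[A] B ⧸ J.map (algebraMap A B) :=
    Algebra.TensorProduct.lift
      (Ideal.Quotient.liftₐ J (Algebra.ofId A _) fun a ha => by
        show algebraMap A (B ⧸ J.map (algebraMap A B)) a = 0
        rw [IsScalarTower.algebraMap_apply A B, Ideal.Quotient.algebraMap_eq]
        exact Ideal.Quotient.eq_zero_iff_mem.2 (Ideal.mem_map_of_mem _ ha))
      (Ideal.Quotient.mkₐ A _) fun _ _ => Commute.all _ _
  have := congrArg g h0
  rw [map_zero] at this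
  simp only [g, Algebra.TensorProduct.lift_tmul, map_one, _root_.one_mul] at this
  exact Ideal.Quotient.eq_zero_iff_mem.1 this

/-- a coherent family on torsion points is given by one element -/
theorem Cov.exists_value (hc : Cov A B N) {J : Ideal A} (hJ : IsNilpotent J) {C : Type u}
    (P : TorData A B N J C) (f : C) :
    ∃ b : B, ∀ (R : Type u) [CommRing R] [Algebra A R] (x : B →ₐ[A] R), Adm N x → x b = P.Φ R x f := by
  classical
  obtain ⟨ι, _, S, _, _, hff, hs⟩ := hc.cover
  haveI := hff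
  have hw : ∀ i, ∃ w : S i ⊗[A] B, ∀ (R : Type u) [CommRing R] [Algebra A R] (ρ : S i →ₐ[A] R) (x : B →ₐ[A] R),
      Adm N x → ev ρ x w = P.Φ R x f := fun i => by
    obtain ⟨Γ, _, D, q, hE, hsep, hqu, hqN⟩ := hs i
    exact exists_split_value hJ P f hc.mul D hE hsep hqu hqN
  choose w hw using hw
  let T := ∀ i, S i
  let z : T ⊗[A] B := (TensorProduct.piLeft (R := A) (N := B) (M := S)).symm w
  have hpr : ∀ i, Algebra.TensorProduct.map (Pi.evalAlgHom A S i) (AlgHom.id A B) z = w i := fun i => by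
    have h1 : ∀ t : T ⊗[A] B, Algebra.TensorProduct.map (Pi.evalAlgHom A S i) (AlgHom.id A B) t =
        TensorProduct.piLeft (R := A) (N := B) (M := S) t i := fun t => by
      induction t using TensorProduct.induction_on with
      | zero => simp
      | tmul t b => simp
      | add p q hp hq => simp only [map_add, hp, hq, Pi.add_apply]
    rw [h1, LinearEquiv.apply_symm_apply]
  have hz : ∀ (R : Type u) [CommRing R] [Algebra A R] (ρ : T →ₐ[A] R) (x : B →ₐ[A] R),
      Adm N x → ev ρ x z = P.Φ R x f := by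
    intro R _ _ ρ x hx
    let e : ι → R := fun i => ρ (Pi.single i 1)
    have hone : ∑ i, Pi.single i (1 : S i) = (1 : T) := Finset.univ_sum_single (1 : T)
    have hsum : ∀ r : R, r = ∑ i, e i * r := fun r => by
      rw [← Finset.sum_mul, ← map_sum, hone, map_one, _root_.one_mul]
    rw [← sub_eq_zero, hsum (_ - _)]
    refine Finset.sum_eq_zero fun i _ => ?_
    let R' := R ⧸ Ideal.span {1 - e i}
    let h : R →ₐ[A] R' := Ideal.Quotient.mkₐ A _
    have hei : h (e i) = 1 := by
      rw [← map_one h, eq_comm, ← sub_eq_zero, ← map_sub]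
      exact Ideal.Quotient.eq_zero_iff_mem.2 (Ideal.subset_span rfl)
    let ρi : S i →ₐ[A] R' :=
      AlgHom.ofLinearMap ((h.comp ρ).toLinearMap ∘ₗ LinearMap.single A S i) hei fun a b => by
        show h (ρ (Pi.single i (a * b))) = h (ρ (Pi.single i a)) * h (ρ (Pi.single i b))
        rw [Pi.single_mul, map_mul, map_mul]
    have hρ : ρi.comp (Pi.evalAlgHom A S i) = h.comp ρ := AlgHom.ext fun t => by
      show h (ρ (Pi.single i (t i))) = h (ρ t)
      have h1 : (Pi.single i (t i) : T) = t * Pi.single i 1 := by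
        ext j
        rcases eq_or_ne j i with rfl | hj
        · simp
        · simp [hj]
      rw [h1, map_mul, map_mul]
      show h (ρ t) * h (e i) = _
      rw [hei, _root_.mul_one]
    have h2 : h (ev ρ x z) = h (P.Φ R x f) := by
      rw [← AlgHom.comp_apply, comp_ev, P.nat h x hx f, ← hw i R' ρi _ (hx.comp h), ← hpr i, ← hρ,
        ← AlgHom.comp_apply (ev ρi (h.comp x))]
      congr 1
      exact Algebra.TensorProduct.ext' fun t b => by simp [ev]; rfl
    obtain ⟨c, hc'⟩ := Ideal.mem_span_singleton'.1 ((Ideal.Quotient.mk_eq_mk_iff_sub_mem _ _).1 h2)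
    have hidem : e i * e i = e i := by rw [← map_mul, ← Pi.single_mul, _root_.one_mul]
    rw [← hc']
    have : e i * (c * (1 - e i)) = c * (e i - e i * e i) := by ring
    rw [this, hidem, sub_self, mul_zero]
  have hagree : LinearMap.lTensor T (TensorProduct.mk A T B 1) z = (1 : T) ⊗ₜ z := by
    let l : T ⊗[A] B →ₐ[A] (T ⊗[A] T) ⊗[A] B :=
      Algebra.TensorProduct.map Algebra.TensorProduct.includeLeft (AlgHom.id A B)
    let r : T ⊗[A] B →ₐ[A] (T ⊗[A] T) ⊗[A] B :=
      Algebra.TensorProduct.map Algebra.TensorProduct.includeRight (AlgHom.id A B)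
    have h0 : l z - r z = 0 := hc.sep (T ⊗[A] T) _ fun R _ _ ρ x hx => by
      have hl : (ev ρ x).comp l = ev (ρ.comp Algebra.TensorProduct.includeLeft) x :=
        Algebra.TensorProduct.ext' fun t b => by simp [ev, l]
      have hr : (ev ρ x).comp r = ev (ρ.comp Algebra.TensorProduct.includeRight) x :=
        Algebra.TensorProduct.ext' fun t b => by simp [ev, r]
      rw [map_sub, ← AlgHom.comp_apply, ← AlgHom.comp_apply, hl, hr, hz _ _ _ hx, hz _ _ _ hx, sub_self]
    have hl2 : ∀ t : T ⊗[A] B, TensorProduct.assoc A T T B (l t) = LinearMap.lTensor T (TensorProduct.mk A T B 1) t :=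
      fun t => by
      induction t using TensorProduct.induction_on with
      | zero => simp
      | tmul t b => simp [l]
      | add p q hp hq => simp only [map_add, hp, hq]
    have hr2 : ∀ t : T ⊗[A] B, TensorProduct.assoc A T T B (r t) = (1 : T) ⊗ₜ t :=
      fun t => by
      induction t using TensorProduct.induction_on with
      | zero => simp
      | tmul t b => simp [r]
      | add p q hp hq => simp only [map_add, hp, hq, TensorProduct.tmul_add]
    rw [← hl2, ← hr2, sub_eq_zero.1 h0]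
  obtain ⟨b, hb⟩ := exists_of_agree z hagree
  refine ⟨b, fun R _ _ x hx => ?_⟩
  let h : R →ₐ[A] T ⊗[A] R := Algebra.TensorProduct.includeRight
  refine Module.FaithfullyFlat.tensorProduct_mk_injective (A := A) (B := T) R ?_
  show h (x b) = h (P.Φ R x f)
  rw [P.nat h x hx f, ← hz _ Algebra.TensorProduct.includeLeft _ (hx.comp h), ← hb]
  simp [ev, ← Algebra.TensorProduct.one_def]

end Groth.L25.TorLift
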