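import Groth.Agent.L25.TorLift.Graph
import Groth.Agent.L25.TorLift.Descend

/-!
# Homomorphisms out of affine groups with many torsion points, prescribed on torsion
-/

set_option autoImplicit false
universe u

open CategoryTheory CategoryTheory.Limits MonoidalCategory CartesianMonoidalCategory MonObj GrpObj
open AlgebraicGeometry TensorProduct WithConv

set_option linter.style.haveILetI false
set_option backward.isDefEq.respectTransparency.types false

noncomputable section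

namespace Groth.L25.TorLift

variable {A : Type u} [CommRing A] {J : Ideal A}

/-- two morphisms from an affine scheme which agree modulo the ideal and on separating points agree -/
theorem ext_of_sep (hJ : IsNilpotent J) {D : Type u} [CommRing D] [Algebra A D]
    {G : Over (Spec (CommRingCat.of A))} (Fam : ∀ (R : Type u) [CommRing R] [Algebra A R], (D →ₐ[A] R) → Prop)
    (hsep : ∀ d : D, (∀ (R : Type u) [CommRing R] [Algebra A R] (f : D →ₐ[A] R), Fam R f → f d = 0) → d = 0)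
    (a b : Xp A D ⟶ G) (h : red J a = red J b)
    (hpt : ∀ (R : Type u) [CommRing R] [Algebra A R] (f : D →ₐ[A] R), Fam R f → xm f ≫ a = xm f ≫ b) : a = b := by
  obtain ⟨n, hn⟩ := hJ
  obtain ⟨C, _, _, C', _, _, jC, jC', r, hι, -⟩ := exists_levels (gr (red J a)) (le_refl n)
  haveI := hι.mono
  have hK : (J.map (algebraMap A D)) ^ (n + 1) = ⊥ := by
    rw [← Ideal.map_pow, pow_succ, hn, Ideal.zero_eq_bot, Ideal.bot_mul, Ideal.map_bot]
  have hfac : ∀ c : Xp A D ⟶ G, red J c = red J a → ∃ hc : C →ₐ[A] D, xm hc ≫ jC = lift (𝟙 _) c := fun c hc => by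
    refine hι.factor D _ (lift (𝟙 _) c) hK (inImage_map _ _ ?_)
    show red J (lift (𝟙 _) c ≫ snd _ _) = red J (lift (𝟙 _) c ≫ fst _ _) ≫ red J a
    rw [lift_fst, lift_snd, hc, show red J (𝟙 (Xp A D)) = 𝟙 _ from (Over.pullback (bi J)).map_id _, Category.id_comp]
  obtain ⟨ha, hha⟩ := hfac a rfl
  obtain ⟨hb, hhb⟩ := hfac b h.symm
  have e : ha = hb := AlgHom.ext fun c => sub_eq_zero.1 (hsep _ fun R _ _ f hf => by
    have e1 : xm (f.comp ha) = xm (f.comp hb) := by
      rw [← cancel_mono jC, xm_comp, xm_comp, Category.assoc, Category.assoc, hha, hhb, comp_lift, comp_lift,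
        hpt R f hf]
    rw [map_sub, ← AlgHom.comp_apply, xm_injective e1, AlgHom.comp_apply, sub_self])
  have e2 : lift (𝟙 (Xp A D)) a = lift (𝟙 _) b := by rw [← hha, ← hhb, e]
  simpa using congrArg (fun p => p ≫ snd _ _) e2

theorem killed_mk (J : Ideal A) (B : Type u) [CommRing B] [Algebra A B] :
    ∀ a ∈ J, algebraMap A (B ⧸ J.map (algebraMap A B)) a = 0 := fun a ha => by
  rw [IsScalarTower.algebraMap_apply A B (B ⧸ J.map (algebraMap A B)), Ideal.Quotient.algebraMap_eq]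
  exact Ideal.Quotient.eq_zero_iff_mem.2 (Ideal.mem_map_of_mem _ ha)

/-- the reduction only sees the reduced algebra -/
theorem isIso_red_mk (B : Type u) [CommRing B] [Algebra A B] :
    IsIso (red J (xm (Ideal.Quotient.mkₐ A (J.map (algebraMap A B))))) := by
  let mkB := Ideal.Quotient.mkₐ A (J.map (algebraMap A B))
  let Bb := B ⧸ J.map (algebraMap A B)
  have hBb := killed_mk J B
  let e := red J (xm mkB)
  have hl : ∃ back : (Red.bc (bi J) (Xp A B)).left ⟶ (Red.bc (bi J) (Xp A Bb)).left,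
      back ≫ e.left = 𝟙 _ := by
    let R' := Γ(pullback (Xp A B).hom (bi J), ⊤)
    let q := (pullback (Xp A B).hom (bi J)).isoSpec.inv ≫ pullback.fst (Xp A B).hom (bi J)
    let θ : B →+* R' := (Spec.preimage (R := CommRingCat.of B) (S := R') q).hom
    have hker : J.map (algebraMap A B) ≤ RingHom.ker θ := Ideal.map_le_iff_le_comap.2 fun a ha => by
      rw [Ideal.mem_comap, RingHom.mem_ker]
      have h : CommRingCat.ofHom (algebraMap A B) ≫ CommRingCat.ofHom θ =
          CommRingCat.ofHom (Ideal.Quotient.mk J) ≫ Spec.preimage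
            ((pullback (Xp A B).hom (bi J)).isoSpec.inv ≫ pullback.snd (Xp A B).hom (bi J)) := by
        apply Spec.map_injective
        rw [Spec.map_comp, Spec.map_comp, Spec.map_preimage,
          show CommRingCat.ofHom θ = Spec.preimage q from rfl, Spec.map_preimage]
        exact (Category.assoc _ _ _).trans ((congrArg (_ ≫ ·) pullback.condition).trans (Category.assoc _ _ _).symm)
      have h' := congr($(h).hom a)
      rw [CommRingCat.hom_comp, CommRingCat.hom_comp, RingHom.comp_apply, RingHom.comp_apply,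
        CommRingCat.hom_ofHom, CommRingCat.hom_ofHom, CommRingCat.hom_ofHom,
        Ideal.Quotient.eq_zero_iff_mem.2 ha, map_zero] at h'
      exact h'
    let θ' : Bb →+* R' := Ideal.Quotient.lift _ θ fun a ha => hker ha
    let s : (Red.bc (bi J) (Xp A B)).left ⟶ (Xp A Bb).left :=
      (pullback (Xp A B).hom (bi J)).isoSpec.hom ≫ Spec.map (CommRingCat.ofHom θ')
    have hs : s ≫ (xm mkB).left = pullback.fst (Xp A B).hom (bi J) := by
      show ((pullback (Xp A B).hom (bi J)).isoSpec.hom ≫ Spec.map (CommRingCat.ofHom θ')) ≫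
        Spec.map (CommRingCat.ofHom mkB.toRingHom) = _
      rw [Category.assoc, ← Spec.map_comp]
      have : CommRingCat.ofHom mkB.toRingHom ≫ CommRingCat.ofHom θ' = Spec.preimage q := rfl
      rw [this, Spec.map_preimage]
      exact Iso.hom_inv_id_assoc _ _
    refine ⟨s ≫ killedLift hBb, ?_⟩
    rw [← cancel_mono (pullback.fst (Xp A B).hom (bi J)), Category.assoc, Category.assoc, red_left_fst,
      Category.id_comp, ← Category.assoc (killedLift hBb), killedLift_fst, Category.id_comp, hs]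
  obtain ⟨back, hb'⟩ := hl
  haveI : IsClosedImmersion (xm mkB).left :=
    IsClosedImmersion.spec_of_surjective _ Ideal.Quotient.mk_surjective
  haveI : Mono e.left := by
    have : Mono (e.left ≫ pullback.fst (Xp A B).hom (bi J)) := by rw [red_left_fst]; infer_instance
    exact mono_of_mono e.left (pullback.fst (Xp A B).hom (bi J))
  haveI : IsSplitEpi e.left := IsSplitEpi.mk' ⟨back, hb'⟩
  haveI : IsIso e.left := isIso_of_mono_of_isSplitEpi e.left
  haveI : IsIso ((Over.forget _).map e) := this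
  exact isIso_of_reflects_iso e (Over.forget _)

variable {B : Type u} [CommRing B] [HopfAlgebra A B] {N : Set ℕ} {G : Over (Spec (CommRingCat.of A))}

theorem ext_adm (hc : Cov A B N) (hJ : IsNilpotent J) (a b : Xp A B ⟶ G) (h : red J a = red J b)
    (hpt : ∀ (R : Type u) [CommRing R] [Algebra A R] (x : B →ₐ[A] R), Adm N x → xm x ≫ a = xm x ≫ b) : a = b :=
  ext_of_sep hJ (fun _ _ _ x => Adm N x) hc.sep_id a b h hpt

theorem ext_ev (hc : Cov A B N) (hJ : IsNilpotent J) {L : Type u} [CommRing L] [Algebra A L]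
    (a b : Xp A (L ⊗[A] B) ⟶ G) (h : red J a = red J b)
    (hpt : ∀ (R : Type u) [CommRing R] [Algebra A R] (ρ : L →ₐ[A] R) (x : B →ₐ[A] R), Adm N x →
      xm (ev ρ x) ≫ a = xm (ev ρ x) ≫ b) : a = b :=
  ext_of_sep hJ (fun R _ _ f => ∃ (ρ : L →ₐ[A] R) (x : B →ₐ[A] R), Adm N x ∧ f = ev ρ x)
    (fun d hd => hc.sep L d fun R _ _ ρ x hx => hd R _ ⟨ρ, x, hx, rfl⟩) a b h
    (fun R _ _ f hf => by obtain ⟨ρ, x, hx, rfl⟩ := hf; exact hpt R ρ x hx)

theorem xm_mul {R : Type u} [CommRing R] [Algebra A R] (x y : B →ₐ[A] R) :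
    xm (toConv x * toConv y).ofConv = (xm x * xm y : Xp A R ⟶ Xp A B) :=
  map_mul Spec.mapMulEquiv (toConv x) (toConv y)

theorem xm_pow {R : Type u} [CommRing R] [Algebra A R] (x : B →ₐ[A] R) (n : ℕ) :
    xm ((toConv x) ^ n).ofConv = (xm x ^ n : Xp A R ⟶ Xp A B) :=
  map_pow Spec.mapMulEquiv (toConv x) n

theorem xm_one {R : Type u} [CommRing R] [Algebra A R] :
    xm (1 : WithConv (B →ₐ[A] R)).ofConv = (1 : Xp A R ⟶ Xp A B) :=
  map_one Spec.mapMulEquiv

variable [GrpObj G]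

theorem red_mul {X : Over (Spec (CommRingCat.of A))} (a b : X ⟶ G) : red J (a * b) = red J a * red J b :=
  map_mul ((Over.pullback (bi J)).homMonoidHom) a b

theorem pair_left {X Y T : Over (Spec (CommRingCat.of A))} [GrpObj T] (f : Y ⟶ X) {a b : X ⟶ T} {a' b' : Y ⟶ T}
    (ha : f ≫ a = a') (hb : f ≫ b = b') (u : T ⟶ G) : f ≫ ((a * b) ≫ u) = (a' * b') ≫ u := by
  rw [← Category.assoc, MonObj.comp_mul, ha, hb]

theorem pair_right {X Y T : Over (Spec (CommRingCat.of A))} (f : Y ⟶ X) {a b : X ⟶ T} {a' b' : Y ⟶ T}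
    (ha : f ≫ a = a') (hb : f ≫ b = b') (u : T ⟶ G) :
    f ≫ ((a ≫ u) * (b ≫ u)) = (a' ≫ u) * (b' ≫ u) := by
  rw [MonObj.comp_mul, ← Category.assoc, ← Category.assoc, ha, hb]

/-- the homomorphism with prescribed values on torsion -/
theorem exists_hom (hc : Cov A B N) (hJ : IsNilpotent J) [Coalgebra.IsCocomm A B]
    (u₀ : Red.bc (bi J) (Xp A B) ⟶ Red.bc (bi J) G) [IsMonHom u₀]
    (V : ∀ (R : Type u) [CommRing R] [Algebra A R], (B →ₐ[A] R) → (Xp A R ⟶ G))
    (hVred : ∀ (R : Type u) [CommRing R] [Algebra A R] (x : B →ₐ[A] R), Adm N x →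
      red J (V R x) = red J (xm x) ≫ u₀)
    (hVnat : ∀ (R R' : Type u) [CommRing R] [Algebra A R] [CommRing R'] [Algebra A R'] (h : R →ₐ[A] R')
      (x : B →ₐ[A] R), Adm N x → xm h ≫ V R x = V R' (h.comp x))
    (hVmul : ∀ (R : Type u) [CommRing R] [Algebra A R] (x y : B →ₐ[A] R), Adm N x → Adm N y →
      V R (toConv x * toConv y).ofConv = V R x * V R y) :
    ∃ u : Xp A B ⟶ G, IsMonHom u ∧ red J u = u₀ ∧
      ∀ (R : Type u) [CommRing R] [Algebra A R] (x : B →ₐ[A] R), Adm N x → xm x ≫ u = V R x := by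
  classical
  obtain ⟨n, hn⟩ := hJ
  have hJn : J ^ (n + 1) = ⊥ := by rw [pow_succ, hn, Ideal.zero_eq_bot, Ideal.bot_mul]
  obtain ⟨C₁, _, _, C₂, _, _, ι₁, ι₂, r, hι₁, hι₂, hr, hrι⟩ :=
    exists_levels (gr u₀) (show n ≤ 2 * n + 1 by omega)
  haveI := hι₁.mono
  haveI := hι₂.mono
  have hAdm_mul : ∀ (R : Type u) [CommRing R] [Algebra A R] (x y : B →ₐ[A] R), Adm N x → Adm N y →
      Adm N (toConv x * toConv y).ofConv := fun R _ _ x y hx hy => by
    obtain ⟨a, ha, hua, hxa⟩ := hx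
    obtain ⟨b, hb, hub, hyb⟩ := hy
    refine ⟨a * b, hc.mul a ha b hb, by rw [Nat.cast_mul]; exact hua.mul hub, ?_⟩
    rw [toConv_ofConv, mul_pow, pow_mul, hxa, one_pow, _root_.one_mul, mul_comm, pow_mul, hyb, one_pow]
  have hK : ∀ (R : Type u) [CommRing R] [Algebra A R], (J.map (algebraMap A R)) ^ (n + 1) = ⊥ :=
    fun R _ _ => by rw [← Ideal.map_pow, hJn, Ideal.map_bot]
  let p : ∀ (R : Type u) [CommRing R] [Algebra A R], (B →ₐ[A] R) → (Xp A R ⟶ Xp A B ⊗ G) :=
    fun R _ _ x => lift (xm x) (V R x)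
  have hOn : ∀ (R : Type u) [CommRing R] [Algebra A R] (x : B →ₐ[A] R), Adm N x → OnGraph u₀ (p R x) :=
    fun R _ _ x hx => by
    show red J (lift _ _ ≫ snd _ _) = red J (lift _ _ ≫ fst _ _) ≫ u₀
    rw [lift_fst, lift_snd]
    exact hVred R x hx
  have hfac₁ : ∀ (R : Type u) [CommRing R] [Algebra A R] (x : B →ₐ[A] R), Adm N x →
      ∃ h : C₁ →ₐ[A] R, xm h ≫ ι₁ = p R x := fun R _ _ x hx =>
    hι₁.factor R _ _ (hK R) (inImage_map u₀ _ (hOn R x hx))
  let Φ : ∀ (R : Type u) [CommRing R] [Algebra A R], (B →ₐ[A] R) → C₂ → R :=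
    fun R _ _ x f => if h : ∃ φ : C₂ →ₐ[A] R, xm φ ≫ ι₂ = p R x then h.choose f else 0
  have hΦ : ∀ (R : Type u) [CommRing R] [Algebra A R] (x : B →ₐ[A] R) (φ : C₂ →ₐ[A] R),
      xm φ ≫ ι₂ = p R x → ∀ f, Φ R x f = φ f := fun R _ _ x φ hφ f => by
    have h : ∃ φ : C₂ →ₐ[A] R, xm φ ≫ ι₂ = p R x := ⟨φ, hφ⟩
    simp only [Φ, dif_pos h]
    rw [xm_injective ((cancel_mono ι₂).1 (h.choose_spec.trans hφ.symm))]
  have hfac₂ : ∀ (R : Type u) [CommRing R] [Algebra A R] (x : B →ₐ[A] R), Adm N x →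
      ∃ φ : C₂ →ₐ[A] R, xm φ ≫ ι₂ = p R x ∧ ∀ f, Φ R x f = φ f := fun R _ _ x hx => by
    obtain ⟨h, hh⟩ := hfac₁ R x hx
    have : xm (h.comp r) ≫ ι₂ = p R x := by rw [xm_comp, Category.assoc, hrι, hh]
    exact ⟨_, this, hΦ R x _ this⟩
  let Bb := B ⧸ J.map (algebraMap A B)
  have hBb : ∀ a ∈ J, algebraMap A Bb a = 0 := fun a ha => by
    rw [IsScalarTower.algebraMap_apply A B Bb, Ideal.Quotient.algebraMap_eq]
    exact Ideal.Quotient.eq_zero_iff_mem.2 (Ideal.mem_map_of_mem _ ha)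
  let mkB : B →ₐ[A] Bb := Ideal.Quotient.mkₐ A _
  obtain ⟨v₀, hv₀⟩ := exists_red_eq hBb (red J (xm mkB) ≫ u₀)
  obtain ⟨h₀, hh₀⟩ : ∃ h₀ : C₂ →ₐ[A] Bb, xm h₀ ≫ ι₂ = lift (xm mkB) v₀ := by
    refine hι₂.factor Bb _ _ ?_ (inImage_map u₀ _ ?_)
    · rw [← Ideal.map_pow]
      have h : J ^ (2 * n + 1 + 1) = ⊥ := le_bot_iff.1 (hJn ▸ Ideal.pow_le_pow_right (by omega))
      rw [h, Ideal.map_bot]
    · show red J (lift _ _ ≫ snd _ _) = red J (lift _ _ ≫ fst _ _) ≫ u₀
      rw [lift_fst, lift_snd]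
      exact hv₀
  choose φ₀ hφ₀ using fun f : C₂ => Ideal.Quotient.mk_surjective (h₀ f)
  have hnat : ∀ {R R' : Type u} [CommRing R] [Algebra A R] [CommRing R'] [Algebra A R'] (h : R →ₐ[A] R')
      (x : B →ₐ[A] R), Adm N x → ∀ f, h (Φ R x f) = Φ R' (h.comp x) f := fun {R R'} _ _ _ _ h x hx f => by
    obtain ⟨φ, hφ, hΦx⟩ := hfac₂ R x hx
    rw [hΦx, hΦ R' (h.comp x) (h.comp φ) ?_]
    · rfl
    · rw [xm_comp, Category.assoc, hφ, comp_lift, ← xm_comp, hVnat _ _ h x hx]
  have hmod : ∀ (R : Type u) [CommRing R] [Algebra A R] (x : B →ₐ[A] R), Adm N x →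
      (∀ a ∈ J, algebraMap A R a = 0) → ∀ f, Φ R x f = x (φ₀ f) := fun R _ _ x hx hR f => by
    let x' : Bb →ₐ[A] R := Ideal.Quotient.liftₐ _ x fun a ha => by
      have h : J.map (algebraMap A B) ≤ RingHom.ker x.toRingHom := Ideal.map_le_iff_le_comap.2 fun c hc' => by
        rw [Ideal.mem_comap, RingHom.mem_ker]
        exact (x.commutes c).trans (hR c hc')
      exact h ha
    have hx' : x'.comp mkB = x := AlgHom.ext fun b => rfl
    have hv : V R x = xm x' ≫ v₀ := ext_killed hR (by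
      rw [red_comp, hv₀, ← Category.assoc, ← red_comp, ← xm_comp, hx', hVred R x hx])
    rw [hΦ R x (x'.comp h₀) ?_]
    · show x' (h₀ f) = _
      rw [← hφ₀ f]
      rfl
    · rw [xm_comp, Category.assoc, hh₀, comp_lift, ← xm_comp, hx', ← hv]
  have hdiag : ∀ f, ∃ l : List (C₂ × C₂), ∀ (R : Type u) [CommRing R] [Algebra A R] (x y : B →ₐ[A] R),
      Adm N x → Adm N y → Φ R (toConv x * toConv y).ofConv f = (l.map fun q => Φ R x q.1 * Φ R y q.2).sum := by
    let CC := C₁ ⊗[A] C₁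
    let il : C₁ →ₐ[A] CC := Algebra.TensorProduct.includeLeft
    let ir : C₁ →ₐ[A] CC := Algebra.TensorProduct.includeRight
    let pl := xm il ≫ ι₁
    let pr := xm ir ≫ ι₁
    let pm : Xp A CC ⟶ Xp A B ⊗ G :=
      lift ((pl ≫ fst _ _) * (pr ≫ fst _ _)) ((pl ≫ snd _ _) * (pr ≫ snd _ _))
    obtain ⟨K₁, hK₁, hi⟩ := hι₁.image
    obtain ⟨hJK, hon⟩ := onGraph_of_image u₀ K₁ ι₁ hi
    let K := K₁.map il.toRingHom ⊔ K₁.map ir.toRingHom
    let mk := Ideal.Quotient.mkₐ A K
    have hside : ∀ (j : C₁ →ₐ[A] CC), K₁.map j.toRingHom ≤ K → OnGraph u₀ (xm mk ≫ xm j ≫ ι₁) := fun j hj => by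
      let j' : C₁ ⧸ K₁ →ₐ[A] CC ⧸ K := Ideal.Quotient.liftₐ _ (mk.comp j) fun a ha =>
        Ideal.Quotient.eq_zero_iff_mem.2 (hj (Ideal.mem_map_of_mem _ ha))
      have e : j'.comp (Ideal.Quotient.mkₐ A K₁) = mk.comp j := AlgHom.ext fun _ => rfl
      rw [← Category.assoc, ← xm_comp, ← e, xm_comp, Category.assoc]
      exact hon.comp u₀ _
    obtain ⟨φm, hφm⟩ : ∃ φm : C₂ →ₐ[A] CC, xm φm ≫ ι₂ = pm := by
      refine hι₂.factor CC K pm ?_ (inImage_of_killed u₀ K pm (fun a ha => ?_) ?_)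
      · refine le_bot_iff.1 ?_
        rw [show 2 * n + 1 + 1 = (n + 1) + (n + 1) by omega]
        refine Ideal.sup_pow_add_le_pow_sup_pow.trans ?_
        rw [← Ideal.map_pow, ← Ideal.map_pow, hK₁, Ideal.map_bot, Ideal.map_bot, sup_bot_eq]
      · rw [← il.commutes]
        exact Ideal.mem_sup_left (Ideal.mem_map_of_mem il.toRingHom (hJK a ha))
      · have h1 : red J (xm mk ≫ pl ≫ snd _ _) = red J (xm mk ≫ pl ≫ fst _ _) ≫ u₀ := by
          have := hside il le_sup_left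
          unfold OnGraph at this
          simpa only [pl, Category.assoc] using this
        have h2 : red J (xm mk ≫ pr ≫ snd _ _) = red J (xm mk ≫ pr ≫ fst _ _) ≫ u₀ := by
          have := hside ir le_sup_right
          unfold OnGraph at this
          simpa only [pr, Category.assoc] using this
        show red J ((xm mk ≫ pm) ≫ snd _ _) = red J ((xm mk ≫ pm) ≫ fst _ _) ≫ u₀
        simp only [pm, Category.assoc, lift_fst, lift_snd, MonObj.comp_mul, red_mul, MonObj.mul_comp]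
        rw [h1, h2]
    intro f
    obtain ⟨S, hS⟩ := TensorProduct.exists_finset (φm f)
    choose lf hlf using hr
    refine ⟨S.toList.map fun q => (lf q.1, lf q.2), fun R _ _ x y hx hy => ?_⟩
    obtain ⟨h1, hh1⟩ := hfac₁ R x hx
    obtain ⟨h1', hh1'⟩ := hfac₁ R y hy
    let hxy : CC →ₐ[A] R := Algebra.TensorProduct.lift h1 h1' fun _ _ => Commute.all _ _
    have el : hxy.comp il = h1 := Algebra.TensorProduct.lift_comp_includeLeft _ _ fun _ _ => Commute.all _ _
    have er : hxy.comp ir = h1' := Algebra.TensorProduct.lift_comp_includeRight _ _ fun _ _ => Commute.all _ _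
    have e2 : xm hxy ≫ pl = p R x := by rw [← hh1, ← el, xm_comp, Category.assoc]
    have e3 : xm hxy ≫ pr = p R y := by rw [← hh1', ← er, xm_comp, Category.assoc]
    rw [hΦ R (toConv x * toConv y).ofConv (hxy.comp φm) ?_]
    · rw [AlgHom.comp_apply, hS, map_sum, List.map_map, ← Finset.sum_map_toList]
      refine congrArg List.sum (List.map_congr_left fun q _ => ?_)
      have ex : xm (h1.comp r) ≫ ι₂ = p R x := by rw [xm_comp, Category.assoc, hrι, hh1]
      have ey : xm (h1'.comp r) ≫ ι₂ = p R y := by rw [xm_comp, Category.assoc, hrι, hh1']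
      simp only [Function.comp_apply, hΦ R x _ ex, hΦ R y _ ey, AlgHom.comp_apply, hlf]
      exact Algebra.TensorProduct.lift_tmul _ _ (fun _ _ => Commute.all _ _) _ _
    · rw [xm_comp, Category.assoc, hφm, comp_lift, MonObj.comp_mul, MonObj.comp_mul,
        ← Category.assoc _ pl, ← Category.assoc _ pl, ← Category.assoc _ pr, ← Category.assoc _ pr, e2, e3]
      simp only [p, lift_fst, lift_snd, xm_mul, hVmul R x y hx hy]
  let P : TorData A B N J C₂ := ⟨φ₀, Φ, hnat, hmod, hdiag⟩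
  choose b hb using fun f => hc.exists_value ⟨n, hn⟩ P f
  have hbmap : ∀ (R : Type u) [CommRing R] [Algebra A R] (x : B →ₐ[A] R), Adm N x →
      ∃ φ : C₂ →ₐ[A] R, xm φ ≫ ι₂ = p R x ∧ ∀ f, x (b f) = φ f := fun R _ _ x hx => by
    obtain ⟨φ, hφ, hΦx⟩ := hfac₂ R x hx
    exact ⟨φ, hφ, fun f => (hb f R x hx).trans (hΦx f)⟩
  have hlin : ∀ c d : B, (∀ (R : Type u) [CommRing R] [Algebra A R] (x : B →ₐ[A] R), Adm N x → x c = x d) → c = d :=
    fun c d h => sub_eq_zero.1 (hc.sep_id _ fun R _ _ x hx => by rw [map_sub, h R x hx, sub_self])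
  let φ : C₂ →ₐ[A] B :=
    { toFun := b
      map_one' := hlin _ _ fun R _ _ x hx => by
        obtain ⟨φ, -, h⟩ := hbmap R x hx; simp only [h, map_one]
      map_mul' := fun c d => hlin _ _ fun R _ _ x hx => by
        obtain ⟨φ, -, h⟩ := hbmap R x hx; simp only [h, map_mul]
      map_zero' := hlin _ _ fun R _ _ x hx => by
        obtain ⟨φ, -, h⟩ := hbmap R x hx; simp only [h, map_zero]
      map_add' := fun c d => hlin _ _ fun R _ _ x hx => by
        obtain ⟨φ, -, h⟩ := hbmap R x hx; simp only [h, map_add]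
      commutes' := fun a => hlin _ _ fun R _ _ x hx => by
        obtain ⟨φ, -, h⟩ := hbmap R x hx; simp only [h, AlgHom.commutes] }
  have hφx : ∀ (R : Type u) [CommRing R] [Algebra A R] (x : B →ₐ[A] R), Adm N x →
      xm x ≫ xm φ ≫ ι₂ = p R x := fun R _ _ x hx => by
    obtain ⟨ψ, hψ, h⟩ := hbmap R x hx
    rw [← Category.assoc, ← xm_comp, show x.comp φ = ψ from AlgHom.ext h, hψ]
  obtain ⟨u, hu⟩ : ∃ u : Xp A B ⟶ G, u = xm φ ≫ ι₂ ≫ snd _ _ := ⟨_, rfl⟩
  have hux : ∀ (R : Type u) [CommRing R] [Algebra A R] (x : B →ₐ[A] R), Adm N x → xm x ≫ u = V R x :=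
    fun R _ _ x hx => by
    rw [hu, ← Category.assoc (xm φ), ← Category.assoc (xm x), hφx R x hx, lift_snd]
  have hfst : xm φ ≫ ι₂ ≫ fst _ _ = 𝟙 (Xp A B) := by
    obtain ⟨c, hc'⟩ := exists_xm (xm φ ≫ ι₂ ≫ fst _ _)
    have : c = AlgHom.id A B := AlgHom.ext fun d => hlin _ _ fun R _ _ x hx => by
      have h : x.comp c = x := xm_injective (by
        rw [xm_comp, hc', ← Category.assoc (xm φ), ← Category.assoc (xm x), hφx R x hx, lift_fst])
      exact AlgHom.congr_fun h d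
    rw [← hc', this]
    apply Over.OverMorphism.ext
    show Spec.map (CommRingCat.ofHom (AlgHom.id A B).toRingHom) = 𝟙 _
    exact Spec.map_id _
  have hred : red J u = u₀ := by
    have h1 : ∀ f, mkB (b f) = h₀ f := fun f => by
      rw [← hφ₀ f]
      refine Ideal.Quotient.eq.2 (hc.sep_mod J _ fun R _ _ x hx hR => ?_)
      rw [map_sub, hb f R x hx]
      show Φ R x f - _ = 0
      rw [hmod R x hx hR f, sub_self]
    have h2 : xm mkB ≫ xm φ ≫ ι₂ = lift (xm mkB) v₀ := by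
      rw [← Category.assoc, ← xm_comp, show mkB.comp φ = h₀ from AlgHom.ext h1, hh₀]
    have h3 : red J (xm mkB ≫ u) = red J (xm mkB) ≫ u₀ := by
      rw [hu, ← Category.assoc (xm φ), ← Category.assoc (xm mkB), h2, lift_snd, hv₀]
    rw [red_comp] at h3
    haveI := isIso_red_mk (J := J) B
    exact (cancel_epi _).1 h3
  have hmulpt : ∀ (R : Type u) [CommRing R] [Algebra A R] (x y : B →ₐ[A] R), Adm N x → Adm N y →
      (xm x * xm y) ≫ u = (xm x ≫ u) * (xm y ≫ u) := fun R _ _ x y hx hy => by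
    rw [← xm_mul, hux R _ (hAdm_mul R x y hx hy), hux R x hx, hux R y hy, hVmul R x y hx hy]
  have hred_mul : ∀ {X : Over (Spec (CommRingCat.of A))} (s t : X ⟶ Xp A B),
      red J ((s * t) ≫ u) = red J ((s ≫ u) * (t ≫ u)) := fun s t => by
    rw [red_mul, red_comp, red_comp, red_comp, hred,
      show red J (s * t) = red J s * red J t from map_mul ((Over.pullback (bi J)).homMonoidHom) s t, MonObj.mul_comp]
  have hone_pt : ∀ (R : Type u) [CommRing R] [Algebra A R] (ρ : B →ₐ[A] R) (y : B →ₐ[A] R), Adm N y →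
      (xm ρ * xm y) ≫ u = (xm ρ ≫ u) * (xm y ≫ u) := by
    intro R _ _ ρ y hy
    let i₁ : R →ₐ[A] R ⊗[A] B := Algebra.TensorProduct.includeLeft
    let i₂ : B →ₐ[A] R ⊗[A] B := Algebra.TensorProduct.includeRight
    have key : (xm i₂ * (xm i₁ ≫ xm y)) ≫ u = (xm i₂ ≫ u) * ((xm i₁ ≫ xm y) ≫ u) := by
      refine ext_ev hc ⟨n, hn⟩ _ _ (hred_mul _ _) fun R' _ _ σ x hx => ?_
      have e2 : xm (ev σ x) ≫ xm i₂ = xm x := by
        rw [← xm_comp]; congr 1; exact AlgHom.ext fun c => by simp [ev, i₂]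
      have e1 : xm (ev σ x) ≫ xm i₁ ≫ xm y = xm (σ.comp y) := by
        rw [← Category.assoc, ← xm_comp, ← xm_comp]; congr 1; exact AlgHom.ext fun c => by simp [ev, i₁]
      rw [pair_left (xm (ev σ x)) e2 e1, pair_right (xm (ev σ x)) e2 e1]
      exact hmulpt R' x (σ.comp y) hx (hy.comp σ)
    have h := congrArg (xm (ev (AlgHom.id A R) ρ) ≫ ·) key
    have e2 : xm (ev (AlgHom.id A R) ρ) ≫ xm i₂ = xm ρ := by
      rw [← xm_comp]; congr 1; exact AlgHom.ext fun c => by simp [ev, i₂]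
    have e1 : xm (ev (AlgHom.id A R) ρ) ≫ xm i₁ ≫ xm y = xm y := by
      rw [← Category.assoc, ← xm_comp, ← xm_comp]; congr 1; exact AlgHom.ext fun c => by simp [ev, i₁]
    exact (pair_left _ e2 e1 u).symm.trans (h.trans (pair_right _ e2 e1 u))
  have hmul : ∀ (Y : Over (Spec (CommRingCat.of A))) (s t : Y ⟶ Xp A B), (s * t) ≫ u = (s ≫ u) * (t ≫ u) := by
    let i₁ : B →ₐ[A] B ⊗[A] B := Algebra.TensorProduct.includeLeft
    let i₂ : B →ₐ[A] B ⊗[A] B := Algebra.TensorProduct.includeRight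
    have key : (xm i₁ * xm i₂) ≫ u = (xm i₁ ≫ u) * (xm i₂ ≫ u) := by
      refine ext_ev hc ⟨n, hn⟩ _ _ (hred_mul _ _) fun R _ _ σ x hx => ?_
      have e1 : xm (ev σ x) ≫ xm i₁ = xm σ := by
        rw [← xm_comp]; congr 1; exact AlgHom.ext fun c => by simp [ev, i₁]
      have e2 : xm (ev σ x) ≫ xm i₂ = xm x := by
        rw [← xm_comp]; congr 1; exact AlgHom.ext fun c => by simp [ev, i₂]
      rw [pair_left (xm (ev σ x)) e1 e2, pair_right (xm (ev σ x)) e1 e2]
      exact hone_pt R σ x hx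
    intro Y s t
    obtain ⟨st, hst1, hst2⟩ : ∃ st : Y ⟶ Xp A (B ⊗[A] B), st ≫ xm i₁ = s ∧ st ≫ xm i₂ = t := by
      let c := pullback.lift s.left t.left ((Over.w s).trans (Over.w t).symm) ≫ (pullbackSpecIso A B B).hom
      let st : Y ⟶ Xp A (B ⊗[A] B) := Over.homMk c (by
        have h1 : (Xp A (B ⊗[A] B)).hom = Spec.map (CommRingCat.ofHom i₁.toRingHom) ≫ (Xp A B).hom := by
          show Spec.map _ = Spec.map _ ≫ Spec.map _
          rw [← Spec.map_comp]
          rfl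
        refine (congrArg (fun z => c ≫ z) h1).trans ?_
        refine (Category.assoc _ _ _).symm.trans ((congrArg (· ≫ (Xp A B).hom) ?_).trans (Over.w s))
        exact (Category.assoc _ _ _).trans
          ((congrArg (_ ≫ ·) (pullbackSpecIso_hom_fst A B B)).trans (pullback.lift_fst _ _ _)))
      refine ⟨st, Over.OverMorphism.ext ?_, Over.OverMorphism.ext ?_⟩
      · show (_ ≫ (pullbackSpecIso A B B).hom) ≫ _ = _
        rw [Category.assoc]
        exact (congrArg (_ ≫ ·) (pullbackSpecIso_hom_fst A B B)).trans (pullback.lift_fst _ _ _)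
      · show (_ ≫ (pullbackSpecIso A B B).hom) ≫ _ = _
        rw [Category.assoc]
        exact (congrArg (_ ≫ ·) (pullbackSpecIso_hom_snd A B B)).trans (pullback.lift_snd _ _ _)
    rw [← hst1, ← hst2, ← MonObj.comp_mul, Category.assoc, key, MonObj.comp_mul, Category.assoc, Category.assoc]
  refine ⟨u, ⟨?_, ?_⟩, hred, hux⟩
  · have h1 : ∀ (K : Over (Spec (CommRingCat.of A))) [GrpObj K],
        (MonObj.one : 𝟙_ (Over (Spec (CommRingCat.of A))) ⟶ K) = 1 :=
      fun K _ => by rw [Hom.one_def, toUnit_unique (toUnit _) (𝟙 _), Category.id_comp]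
    have h2 := hmul (𝟙_ _) 1 1
    rw [_root_.one_mul] at h2
    rw [show (η[Xp A B] : 𝟙_ (Over (Spec (CommRingCat.of A))) ⟶ Xp A B) = 1 from h1 _,
      show (η[G] : 𝟙_ (Over (Spec (CommRingCat.of A))) ⟶ G) = 1 from h1 _]
    exact left_eq_mul.1 h2
  · rw [MonObj.mul_eq_mul, hmul, MonObj.mul_eq_mul, MonObj.comp_mul, tensorHom_fst, tensorHom_snd]

end Groth.L25.TorLift
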