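import Groth.Agent.L25.TorLift.Split
import Mathlib.RingTheory.Ideal.Quotient.Operations
import Mathlib.RingTheory.Localization.Away.Basic

/-!
# Coherent families on torsion points are values of one element (split case)
-/

set_option autoImplicit false
universe u

open TensorProduct WithConv

set_option linter.style.haveILetI false

noncomputable section

namespace Groth.L25.TorLift

variable {A B : Type u} [CommRing A] [CommRing B] [HopfAlgebra A B]

/-- points killed by an allowed invertible integer -/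
def Adm (N : Set ℕ) {R : Type u} [CommRing R] [Algebra A R] (x : B →ₐ[A] R) : Prop :=
  ∃ n ∈ N, IsUnit (n : R) ∧ (toConv x) ^ n = 1

/-- composition as a homomorphism -/
def postComp {R R' : Type u} [CommRing R] [Algebra A R] [CommRing R'] [Algebra A R'] (h : R →ₐ[A] R') :
    WithConv (B →ₐ[A] R) →* WithConv (B →ₐ[A] R') where
  toFun x := toConv (h.comp x.ofConv)
  map_one' := ofConv_injective (AlgHom.ext fun b => h.commutes _)
  map_mul' x y := by rw [AlgHom.comp_convMul_distrib]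

theorem Adm.comp {N : Set ℕ} {R R' : Type u} [CommRing R] [Algebra A R] [CommRing R'] [Algebra A R']
    (h : R →ₐ[A] R') {x : B →ₐ[A] R} (hx : Adm N x) : Adm N (h.comp x) := by
  obtain ⟨n, hn, hu, hp⟩ := hx
  refine ⟨n, hn, by simpa using hu.map h, ?_⟩
  show (postComp h (toConv x)) ^ n = 1
  rw [← map_pow, hp, map_one]

variable (A B) in
/-- compatible values on the points killed by allowed integers -/
structure TorData (N : Set ℕ) (J : Ideal A) (C : Type u) where
  /-- the values modulo the ideal -/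
  φ₀ : C → B
  /-- the values -/
  Φ : ∀ (R : Type u) [CommRing R] [Algebra A R], (B →ₐ[A] R) → C → R
  nat : ∀ {R R' : Type u} [CommRing R] [Algebra A R] [CommRing R'] [Algebra A R'] (h : R →ₐ[A] R')
    (x : B →ₐ[A] R), Adm N x → ∀ f, h (Φ R x f) = Φ R' (h.comp x) f
  mod : ∀ (R : Type u) [CommRing R] [Algebra A R] (x : B →ₐ[A] R), Adm N x →
    (∀ a ∈ J, algebraMap A R a = 0) → ∀ f, Φ R x f = x (φ₀ f)
  diag : ∀ f, ∃ l : List (C × C), ∀ (R : Type u) [CommRing R] [Algebra A R] (x y : B →ₐ[A] R),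
    Adm N x → Adm N y →
      Φ R (toConv x * toConv y).ofConv f = (l.map fun p => Φ R x p.1 * Φ R y p.2).sum

section Coeff

variable {S Q : Type u} [CommRing S] [CommGroup Q]

theorem coeff_inl_mul_inr (F G : MonoidAlgebra S Q) (p q : Q) :
    (MonoidAlgebra.mapDomainRingHom S (MonoidHom.inl Q Q) F *
      MonoidAlgebra.mapDomainRingHom S (MonoidHom.inr Q Q) G).coeff (p, q) = F.coeff p * G.coeff q := by
  classical
  induction F using MonoidAlgebra.induction_linear with
  | zero => simp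
  | add a b ha hb =>
    rw [map_add, _root_.add_mul, MonoidAlgebra.coeff_add, Finsupp.add_apply, ha, hb, MonoidAlgebra.coeff_add,
      Finsupp.add_apply, _root_.add_mul]
  | single a r =>
    induction G using MonoidAlgebra.induction_linear with
    | zero => simp
    | add c d hc hd =>
      rw [map_add, _root_.mul_add, MonoidAlgebra.coeff_add, Finsupp.add_apply, hc, hd, MonoidAlgebra.coeff_add,
        Finsupp.add_apply, _root_.mul_add]
    | single c t =>
      simp only [MonoidAlgebra.mapDomainRingHom_apply, MonoidAlgebra.mapDomain_single, MonoidHom.inl_apply,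
        MonoidHom.inr_apply, MonoidAlgebra.single_mul_single, Prod.mk_mul_mk, _root_.mul_one, _root_.one_mul,
        MonoidAlgebra.coeff_single, Finsupp.single_apply, Prod.mk.injEq]
      split_ifs with h1 h2 h3 <;> simp_all

theorem coeff_mapDomain_of_notMem {Γ : Type u} [CommGroup Γ] (g : Γ →* Q) (z : MonoidAlgebra S Γ) {p : Q}
    (hp : ∀ γ ∈ z.coeff.support, g γ ≠ p) : (MonoidAlgebra.mapDomainRingHom S g z).coeff p = 0 := by
  classical
  show (Finsupp.mapDomain g z.coeff) p = 0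
  by_contra h
  obtain ⟨γ, hγ, rfl⟩ := Finset.mem_image.1 (Finsupp.mapDomain_support (Finsupp.mem_support_iff.2 h))
  exact hp γ hγ rfl

end Coeff

variable {S : Type u} [CommRing S] [Algebra A S] {Γ : Type u} [CommGroup Γ]

/-- the quotient by the `n`-th powers -/
abbrev Q (Γ : Type u) [CommGroup Γ] (n : ℕ) : Type u := Γ ⧸ (powMonoidHom n : Γ →* Γ).range

/-- the projection -/
abbrev mkQ (n : ℕ) : Γ →* Q Γ n := QuotientGroup.mk' _

theorem mkQ_pow (n : ℕ) (γ : Γ) : mkQ n γ ^ n = 1 := by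
  rw [← map_pow, QuotientGroup.mk'_apply, QuotientGroup.eq_one_iff]
  exact ⟨γ, rfl⟩

theorem injOn_mkQ_of_dvd {m K : ℕ} (h : m ∣ K) {s : Set Γ} (hs : Set.InjOn (mkQ (Γ := Γ) m) s) :
    Set.InjOn (mkQ (Γ := Γ) K) s := by
  intro a ha b hb hab
  refine hs ha hb ?_
  obtain ⟨t, rfl⟩ := h
  rw [QuotientGroup.mk'_apply, QuotientGroup.mk'_apply, QuotientGroup.eq] at hab ⊢
  obtain ⟨c, hc⟩ := hab
  refine ⟨c ^ t, ?_⟩
  rw [← hc]
  simp [powMonoidHom_apply, ← pow_mul, mul_comm]

/-- finite subsets are separated by the quotients by powers of `q` -/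
def Separated (Γ : Type u) [CommGroup Γ] (q : ℕ) : Prop :=
  ∀ s : Finset Γ, ∃ k : ℕ, Set.InjOn (mkQ (Γ := Γ) (q ^ k)) s

theorem eq_of_mapDomain_eq {q : ℕ} (hsep : Separated Γ q) {z z' : MonoidAlgebra S Γ}
    (h : ∀ k : ℕ, MonoidAlgebra.mapDomainRingHom S (mkQ (q ^ k)) z = MonoidAlgebra.mapDomainRingHom S (mkQ (q ^ k)) z') :
    z = z' := by
  classical
  obtain ⟨k, hk⟩ := hsep (z.coeff.support ∪ z'.coeff.support)
  refine MonoidAlgebra.coeff_injective ?_
  refine Finsupp.mapDomain_injOn _ hk ?_ ?_ (congrArg MonoidAlgebra.coeff (h k))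
  · simp [Set.subset_def]; exact fun x hx => Or.inl hx
  · simp [Set.subset_def]; exact fun x hx => Or.inr hx

section Univ

variable (D : Spl A B S Γ)

/-- universal point killed by `n` -/
def univPt (n : ℕ) : B →ₐ[A] MonoidAlgebra S (Q Γ n) :=
  (D.pt MonoidAlgebra.singleOneAlgHom ((MonoidAlgebra.of S (Q Γ n)).comp (mkQ n))).ofConv

theorem univPt_apply (n : ℕ) (b : B) :
    univPt D n b = MonoidAlgebra.mapDomainRingHom S (mkQ n) (D.ψ b) := by
  show gEv _ _ (D.ψ b) = _
  induction D.ψ b using MonoidAlgebra.induction_linear with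
  | zero => simp
  | add p q hp hq => rw [map_add, map_add, hp, hq]
  | single γ s => simp

theorem adm_univPt {N : Set ℕ} {n : ℕ} (hn : n ∈ N) (hu : IsUnit (n : S)) : Adm N (univPt D n) := by
  have hu' : IsUnit ((n : MonoidAlgebra S (Q Γ n))) := by
    simpa using hu.map (algebraMap S (MonoidAlgebra S (Q Γ n)))
  have h1 : ((MonoidAlgebra.of S (Q Γ n)).comp (mkQ n)) ^ n = 1 := MonoidHom.ext fun γ => by
    rw [MonoidHom.pow_apply, MonoidHom.comp_apply, ← map_pow, mkQ_pow, map_one, MonoidHom.one_apply]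
  refine ⟨n, hn, hu', ?_⟩
  unfold univPt
  rw [toConv_ofConv, ← map_pow, h1, map_one]

theorem comp_univPt {n : ℕ} {Q' : Type u} [CommGroup Q'] (g : Q Γ n →* Q') :
    (MonoidAlgebra.mapDomainAlgHom A S g).comp (univPt D n) =
      (D.pt MonoidAlgebra.singleOneAlgHom ((MonoidAlgebra.of S Q').comp (g.comp (mkQ n)))).ofConv := by
  rw [univPt, D.comp_pt]
  have h1 : (MonoidAlgebra.mapDomainAlgHom A S g).comp MonoidAlgebra.singleOneAlgHom =
      MonoidAlgebra.singleOneAlgHom := AlgHom.ext fun t => by simp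
  have h2 : ((MonoidAlgebra.mapDomainAlgHom A S g : MonoidAlgebra S (Q Γ n) →* MonoidAlgebra S Q')).comp
      ((MonoidAlgebra.of S (Q Γ n)).comp (mkQ n)) = (MonoidAlgebra.of S Q').comp (g.comp (mkQ n)) :=
    MonoidHom.ext fun γ => by simp
  rw [h1, h2]

theorem Spl.exists_char {R : Type u} [CommRing R] [Algebra A R] (ρ : S →ₐ[A] R) (x : B →ₐ[A] R) {n : ℕ}
    (hx : (toConv x) ^ n = 1) :
    ∃ χ : Q Γ n →* R, (D.pt ρ (χ.comp (mkQ n))).ofConv = x := by
  obtain ⟨χ, hχ⟩ := (D.bij R ρ).2 (toConv x)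
  have hχ1 : χ ^ n = 1 := (D.bij R ρ).1 (show D.pt ρ (χ ^ n) = D.pt ρ 1 by
    rw [map_pow, map_one]
    show (toConv ((gEv ρ χ).comp D.ψ)) ^ n = 1
    rw [show toConv ((gEv ρ χ).comp D.ψ) = toConv x from hχ, hx])
  have hle : (powMonoidHom n : Γ →* Γ).range ≤ χ.ker := by
    rintro _ ⟨γ, rfl⟩
    rw [MonoidHom.mem_ker, powMonoidHom_apply, map_pow]
    exact DFunLike.congr_fun hχ1 γ
  refine ⟨QuotientGroup.lift _ χ hle, ?_⟩
  have : (QuotientGroup.lift _ χ hle).comp (mkQ n) = χ := MonoidHom.ext fun γ => rfl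
  rw [this]
  exact congrArg WithConv.ofConv hχ

end Univ

variable {N : Set ℕ} {J : Ideal A} {C : Type u}

/-- the supports are finite modulo the powers of the ideal -/
theorem exists_support (hJ : IsNilpotent J) (D : Spl A B S Γ) (P : TorData A B N J C) (f : C) :
    ∃ s : Finset Γ, ∀ n ∈ N, IsUnit (n : S) → ∀ p : Q Γ n, (∀ γ ∈ s, mkQ n γ ≠ p) →
      (P.Φ _ (univPt D n) f).coeff p = 0 := by
  classical
  let JS : Ideal S := J.map (algebraMap A S)
  suffices key : ∀ i : ℕ, ∀ f : C, ∃ s : Finset Γ, ∀ n ∈ N, IsUnit (n : S) → ∀ p : Q Γ n,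
      (∀ γ ∈ s, mkQ n γ ≠ p) → (P.Φ _ (univPt D n) f).coeff p ∈ JS ^ (2 ^ i) by
    obtain ⟨M, hM⟩ := hJ
    obtain ⟨s, hs⟩ := key M f
    refine ⟨s, fun n hn hu p hp => ?_⟩
    have h := Ideal.pow_le_pow_right (le_of_lt (Nat.lt_two_pow_self (n := M))) (hs n hn hu p hp)
    rwa [← Ideal.map_pow, hM, Ideal.zero_eq_bot, Ideal.map_bot, Ideal.mem_bot] at h
  intro i
  induction i with
  | zero =>
    intro f
    refine ⟨(D.ψ (P.φ₀ f)).coeff.support, fun n hn hu p hp => ?_⟩
    let h : MonoidAlgebra S (Q Γ n) →ₐ[A] MonoidAlgebra (S ⧸ JS) (Q Γ n) :=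
      MonoidAlgebra.mapAlgHom _ (Ideal.Quotient.mkₐ A JS)
    have hkill : ∀ a ∈ J, algebraMap A (MonoidAlgebra (S ⧸ JS) (Q Γ n)) a = 0 := fun a ha => by
      rw [← h.commutes]
      ext q
      rw [MonoidAlgebra.coe_algebraMap, MonoidAlgebra.coeff_mapAlgHom, Function.comp_apply,
        MonoidAlgebra.coeff_single, MonoidAlgebra.coeff_zero, Finsupp.zero_apply, Finsupp.single_apply]
      split
      · exact Ideal.Quotient.eq_zero_iff_mem.2 (Ideal.mem_map_of_mem _ ha)
      · exact map_zero _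
    have hx := adm_univPt D hn hu
    have e : h (P.Φ _ (univPt D n) f) = h (univPt D n (P.φ₀ f)) :=
      (P.nat h _ hx f).trans (P.mod _ _ (hx.comp h) hkill f)
    have e' := congrArg (fun z => MonoidAlgebra.coeff z p) e
    simp only [h, MonoidAlgebra.coeff_mapAlgHom] at e'
    rw [univPt_apply, coeff_mapDomain_of_notMem _ _ hp, map_zero] at e'
    rw [pow_zero, pow_one]
    exact Ideal.Quotient.eq_zero_iff_mem.1 e'
  | succ i ih =>
    intro f
    obtain ⟨l, hl⟩ := P.diag f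
    choose s hs using ih
    refine ⟨l.toFinset.biUnion fun ab => s ab.1 ∪ s ab.2, fun n hn hu p hp => ?_⟩
    let Qn := Q Γ n
    let x := univPt D n
    have hx := adm_univPt D hn hu
    let mk2 : (Qn →* Qn × Qn) → (MonoidAlgebra S Qn →ₐ[A] MonoidAlgebra S (Qn × Qn)) :=
      fun g => MonoidAlgebra.mapDomainAlgHom A S g
    let xg : (Qn →* Qn × Qn) → WithConv (B →ₐ[A] MonoidAlgebra S (Qn × Qn)) :=
      fun g => D.pt MonoidAlgebra.singleOneAlgHom ((MonoidAlgebra.of S (Qn × Qn)).comp (g.comp (mkQ n)))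
    have hcomp : ∀ g : Qn →* Qn × Qn, (mk2 g).comp x = (xg g).ofConv := fun g => comp_univPt D g
    have hmul : toConv ((mk2 (MonoidHom.inl Qn Qn)).comp x) * toConv ((mk2 (MonoidHom.inr Qn Qn)).comp x) =
        toConv ((mk2 ((MonoidHom.id Qn).prod (MonoidHom.id Qn))).comp x) := by
      simp only [hcomp, toConv_ofConv, xg, ← map_mul]
      congr 1
      exact MonoidHom.ext fun γ => by simp [MonoidAlgebra.single_mul_single]
    have e := hl _ _ _ (hx.comp (mk2 (MonoidHom.inl Qn Qn))) (hx.comp (mk2 (MonoidHom.inr Qn Qn)))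
    rw [hmul] at e
    simp only [← P.nat _ x hx] at e
    have e2 : mk2 ((MonoidHom.id Qn).prod (MonoidHom.id Qn)) (P.Φ _ x f) =
        (l.map fun ab => mk2 (MonoidHom.inl Qn Qn) (P.Φ _ x ab.1) *
          mk2 (MonoidHom.inr Qn Qn) (P.Φ _ x ab.2)).sum := by
      refine e.trans (congrArg List.sum (List.map_congr_left fun ab _ => ?_))
      rw [P.nat _ x hx ab.1, P.nat _ x hx ab.2]
    have e' := congrArg (fun z => MonoidAlgebra.coeff z (p, p)) e2
    replace e' : (mk2 ((MonoidHom.id Qn).prod (MonoidHom.id Qn)) (P.Φ _ x f)).coeff (p, p) = _ := e'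
    have hd : Function.Injective ((MonoidHom.id Qn).prod (MonoidHom.id Qn)) :=
      fun a b hab => congrArg Prod.fst hab
    have hlhs : (mk2 ((MonoidHom.id Qn).prod (MonoidHom.id Qn)) (P.Φ _ x f)).coeff (p, p) = (P.Φ _ x f).coeff p :=
      Finsupp.mapDomain_apply hd (P.Φ _ x f).coeff p
    rw [← hlhs]
    refine Eq.mpr (congrArg (· ∈ _) e') ?_
    have key : ∀ l' : List (C × C), l' ⊆ l →
        ((l'.map fun ab => mk2 (MonoidHom.inl Qn Qn) (P.Φ _ x ab.1) *
          mk2 (MonoidHom.inr Qn Qn) (P.Φ _ x ab.2)).sum).coeff (p, p) ∈ JS ^ (2 ^ (i + 1)) := by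
      intro l' hsub
      induction l' with
      | nil => simp
      | cons ab l' ih' =>
        rw [List.map_cons, List.sum_cons, MonoidAlgebra.coeff_add, Finsupp.add_apply]
        refine add_mem ?_ (ih' fun z hz => hsub (List.mem_cons_of_mem _ hz))
        rw [show mk2 (MonoidHom.inl Qn Qn) (P.Φ _ x ab.1) * mk2 (MonoidHom.inr Qn Qn) (P.Φ _ x ab.2) =
          MonoidAlgebra.mapDomainRingHom S (MonoidHom.inl Qn Qn) (P.Φ _ x ab.1) *
            MonoidAlgebra.mapDomainRingHom S (MonoidHom.inr Qn Qn) (P.Φ _ x ab.2) from rfl,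
          coeff_inl_mul_inr, pow_succ, Nat.mul_comm, two_mul, pow_add]
        have hmem : ab ∈ l.toFinset := List.mem_toFinset.2 (hsub List.mem_cons_self)
        refine Ideal.mul_mem_mul (hs ab.1 n hn hu p fun γ hγ => hp γ ?_) (hs ab.2 n hn hu p fun γ hγ => hp γ ?_)
        · exact Finset.mem_biUnion.2 ⟨ab, hmem, Finset.mem_union_left _ hγ⟩
        · exact Finset.mem_biUnion.2 ⟨ab, hmem, Finset.mem_union_right _ hγ⟩
    exact key l (List.Subset.refl l)

/-- one element gives all the values -/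
theorem exists_universal_value (hJ : IsNilpotent J) (D : Spl A B S Γ) (P : TorData A B N J C) (f : C)
    {q : ℕ} (hsep : Separated Γ q) (hqN : ∀ k, q ^ k ∈ N) (hqu : IsUnit (q : S))
    (hNmul : ∀ a ∈ N, ∀ b ∈ N, a * b ∈ N) :
    ∃ z : MonoidAlgebra S Γ, ∀ (R : Type u) [CommRing R] [Algebra A R] (ρ : S →ₐ[A] R) (χ : Γ →* R) (n : ℕ),
      n ∈ N → IsUnit (n : S) → (toConv (D.pt ρ χ).ofConv) ^ n = 1 →
        gEv ρ χ z = P.Φ R (D.pt ρ χ).ofConv f := by
  classical
  obtain ⟨s, hs⟩ := exists_support hJ D P f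
  obtain ⟨k, hk⟩ := hsep s
  let c : ∀ n, MonoidAlgebra S (Q Γ n) := fun n => P.Φ _ (univPt D n) f
  let z : MonoidAlgebra S Γ := ∑ γ ∈ s, MonoidAlgebra.single γ ((c (q ^ k)).coeff (mkQ (q ^ k) γ))
  have hu : ∀ n, IsUnit ((q : S) ^ n) := fun n => hqu.pow n
  have hz : ∀ n ∈ N, IsUnit (n : S) → MonoidAlgebra.mapDomainRingHom S (mkQ n) z = c n := by
    intro n hn hun
    let K := n * q ^ k
    have hKN : K ∈ N := hNmul n hn _ (hqN k)
    have hKu : IsUnit (K : S) := by rw [Nat.cast_mul, Nat.cast_pow]; exact hun.mul (hu k)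
    have hinj := injOn_mkQ_of_dvd (Γ := Γ) (Dvd.intro_left n rfl : q ^ k ∣ K) hk
    have hproj : ∀ m, m ∈ N → IsUnit (m : S) → (hd : m ∣ K) → c m =
        ∑ γ ∈ s, MonoidAlgebra.single (mkQ m γ) ((c K).coeff (mkQ K γ)) := by
      intro m hm hum hd
      let π : Q Γ K →* Q Γ m := QuotientGroup.lift _ (mkQ m) (by
        rintro _ ⟨γ, rfl⟩
        obtain ⟨t, ht⟩ := hd
        rw [MonoidHom.mem_ker, powMonoidHom_apply, map_pow, ht, pow_mul, mkQ_pow, one_pow])
      have e1 : (MonoidAlgebra.mapDomainAlgHom A S π).comp (univPt D K) = univPt D m := by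
        rw [comp_univPt, univPt, show π.comp (mkQ K) = mkQ m from MonoidHom.ext fun γ => by simp [π]]
      have e2 : c m = MonoidAlgebra.mapDomainAlgHom A S π (c K) := by
        show P.Φ _ (univPt D m) f = _
        rw [← e1, ← P.nat _ _ (adm_univPt D hKN hKu) f]
      have e3 : c K = ∑ γ ∈ s, MonoidAlgebra.single (mkQ K γ) ((c K).coeff (mkQ K γ)) := by
        ext p
        rw [MonoidAlgebra.coeff_sum, Finsupp.finsetSum_apply]
        simp only [MonoidAlgebra.coeff_single, Finsupp.single_apply]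
        by_cases hp : ∀ γ ∈ s, mkQ K γ ≠ p
        · rw [Finset.sum_eq_zero fun γ hγ => if_neg (hp γ hγ)]
          exact hs K hKN hKu p hp
        · push Not at hp
          obtain ⟨γ₀, hγ₀, rfl⟩ := hp
          rw [Finset.sum_eq_single γ₀ (fun γ hγ hne => if_neg fun he => hne (hinj hγ hγ₀ he))
            (fun h => absurd hγ₀ h), if_pos rfl]
      conv_lhs => rw [e2, e3]
      rw [map_sum]
      exact Finset.sum_congr rfl fun γ _ => by simp [π]
    have h0 := hproj (q ^ k) (hqN k) (by rw [Nat.cast_pow]; exact hu k) (Dvd.intro_left n rfl)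
    have h1 : ∀ γ ∈ s, (c (q ^ k)).coeff (mkQ (q ^ k) γ) = (c K).coeff (mkQ K γ) := by
      intro γ₀ hγ₀
      rw [h0, MonoidAlgebra.coeff_sum, Finsupp.finsetSum_apply]
      simp only [MonoidAlgebra.coeff_single, Finsupp.single_apply]
      rw [Finset.sum_eq_single γ₀ (fun γ hγ hne => if_neg fun he => hne (hk hγ hγ₀ he))
        (fun h => absurd hγ₀ h), if_pos rfl]
    rw [hproj n hn hun (Dvd.intro _ rfl), map_sum]
    exact Finset.sum_congr rfl fun γ hγ => by
      rw [MonoidAlgebra.mapDomainRingHom_apply, MonoidAlgebra.mapDomain_single, h1 γ hγ]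
  refine ⟨z, fun R _ _ ρ χ n hn hun hp => ?_⟩
  obtain ⟨χ', hχ'⟩ := D.exists_char ρ _ hp
  have hχ : χ'.comp (mkQ n) = χ := (D.bij R ρ).1 (congrArg toConv hχ')
  let h : MonoidAlgebra S (Q Γ n) →ₐ[A] R := gEv ρ χ'
  have e1 : h.comp (univPt D n) = (D.pt ρ χ).ofConv := by
    rw [univPt, D.comp_pt, ← hχ]
    have h1 : h.comp MonoidAlgebra.singleOneAlgHom = ρ := AlgHom.ext fun t => by simp [h]
    have h2 : (h : MonoidAlgebra S (Q Γ n) →* R).comp ((MonoidAlgebra.of S (Q Γ n)).comp (mkQ n)) =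
        χ'.comp (mkQ n) := MonoidHom.ext fun γ => by simp [h]
    rw [h1, h2]
  rw [← e1, ← P.nat _ _ (adm_univPt D hn hun) f]
  show gEv ρ χ z = h (c n)
  rw [← hz n hn hun, ← hχ]
  induction z using MonoidAlgebra.induction_linear with
  | zero => simp
  | add a b ha hb => rw [map_add, map_add, map_add, ha, hb]
  | single γ t => simp [h]

end Groth.L25.TorLift
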