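import Groth.Agent.L25.TorLift.Central

/-!
# Commutative groups killed by an invertible integer, and torsion of commutative groups
-/

set_option autoImplicit false
universe u

open CategoryTheory CategoryTheory.Limits MonoidalCategory CartesianMonoidalCategory MonObj GrpObj
open AlgebraicGeometry

set_option linter.style.haveILetI false
set_option backward.isDefEq.respectTransparency.types false

noncomputable section

namespace Groth.L25.TorLift

variable {A : Type u} [CommRing A] {G : Over (Spec (CommRingCat.of A))} [GrpObj G] [Flat G.hom]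
  [LocallyOfFinitePresentation G.hom]
  (hcomm : ∀ (Y : Over (Spec (CommRingCat.of A))) (a b : Y ⟶ G), a * b = b * a)

include hcomm

theorem mem_locus_of_comm {n : ℕ} (hn : IsUnit (n : A)) (y : G.left) : y ∈ CentralLift.locus G n := by
  let K := G.left.residueField y
  let ξ : Spec (CommRingCat.of K) ⟶ Spec (CommRingCat.of A) := G.left.fromSpecResidueField y ≫ G.hom
  let p : Over.mk ξ ⟶ G := Over.homMk (G.left.fromSpecResidueField y) rfl
  have h := CentralLift.central_mem_locus ξ n
    ((inv_of_isUnit hn).comp G.hom K (G.left.fromSpecResidueField y)) p fun Z q g => hcomm Z _ g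
  have e : p.left (IsLocalRing.closedPoint K) = y := Scheme.fromSpecResidueField_apply _ _
  rwa [e] at h

theorem exists_tors_lift' {n : ℕ} (hn : IsUnit (n : A)) {Z : Over (Spec (CommRingCat.of A))} (t : Z ⟶ G)
    (ht : t ^ n = 1) : ∃ t' : Z ⟶ CentralLift.tors G n, t' ≫ CentralLift.torsι G n = t :=
  CentralLift.exists_tors_lift t ht fun _ => mem_locus_of_comm hcomm hn _

theorem etale_of_killed {n : ℕ} (hn : IsUnit (n : A)) (h : (𝟙 G : G ⟶ G) ^ n = 1) : Etale G.hom := by
  obtain ⟨t, ht⟩ := exists_tors_lift' hcomm hn (𝟙 G) h
  have h2 : CentralLift.torsι G n ≫ t = 𝟙 _ := by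
    rw [← cancel_mono (CentralLift.torsι G n), Category.assoc, ht, Category.comp_id, Category.id_comp]
  haveI : IsIso t := ⟨CentralLift.torsι G n, ht, h2⟩
  haveI : IsIso t.left := inferInstanceAs (IsIso ((Over.forget _).map t))
  rw [← Over.w t]
  infer_instance

end Groth.L25.TorLift
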