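import Groth.Agent.L25.TorLift.Target
import Groth.Prelude.Def_Red
import Mathlib.RingTheory.TensorProduct.Maps

/-!
# Points of the product near a graph
-/

set_option autoImplicit false
universe u

open CategoryTheory CategoryTheory.Limits MonoidalCategory CartesianMonoidalCategory AlgebraicGeometry

set_option linter.style.haveILetI false
set_option backward.isDefEq.respectTransparency.types false

noncomputable section

namespace Groth.L25.TorLift

variable {A : Type u} [CommRing A]

/-- the closed subscheme of the base -/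
abbrev bi (J : Ideal A) : Spec (CommRingCat.of (A ⧸ J)) ⟶ Spec (CommRingCat.of A) :=
  Spec.map (CommRingCat.ofHom (Ideal.Quotient.mk J))

/-- base change of morphisms -/
abbrev red (J : Ideal A) {X Y : Over (Spec (CommRingCat.of A))} (f : X ⟶ Y) : Red.bc (bi J) X ⟶ Red.bc (bi J) Y :=
  (Over.pullback (bi J)).map f

variable {J : Ideal A}

instance isClosedImmersion_bi : IsClosedImmersion (bi J) :=
  IsClosedImmersion.spec_of_surjective _ Ideal.Quotient.mk_surjective

instance isClosedImmersion_fst (X : Over (Spec (CommRingCat.of A))) :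
    IsClosedImmersion (pullback.fst X.hom (bi J)) :=
  MorphismProperty.pullback_fst (P := @IsClosedImmersion) X.hom (bi J) inferInstance

instance isAffine_Xp (R : Type u) [CommRing R] [Algebra A R] : IsAffine (Xp A R).left :=
  inferInstanceAs (IsAffine (Spec (CommRingCat.of R)))

theorem red_left_fst {X Y : Over (Spec (CommRingCat.of A))} (f : X ⟶ Y) :
    (red J f).left ≫ pullback.fst Y.hom (bi J) = pullback.fst X.hom (bi J) ≫ f.left :=
  pullback.lift_fst _ _ _

theorem red_comp {X Y Z : Over (Spec (CommRingCat.of A))} (f : X ⟶ Y) (g : Y ⟶ Z) :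
    red J (f ≫ g) = red J f ≫ red J g := (Over.pullback (bi J)).map_comp f g

theorem spec_lift_comp {R : Type u} [CommRing R] [Algebra A R] (hR : ∀ a ∈ J, algebraMap A R a = 0) :
    Spec.map (CommRingCat.ofHom (algebraMap A R)) =
      Spec.map (CommRingCat.ofHom (Ideal.Quotient.lift J (algebraMap A R) hR)) ≫ bi J := by
  rw [← Spec.map_comp]
  rfl

section Killed

variable {R : Type u} [CommRing R] [Algebra A R] (hR : ∀ a ∈ J, algebraMap A R a = 0)
include hR

/-- the section of a killed point -/
def killedLift : (Xp A R).left ⟶ (Red.bc (bi J) (Xp A R)).left :=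
  pullback.lift (𝟙 (Xp A R).left)
    (Spec.map (CommRingCat.ofHom (Ideal.Quotient.lift J (algebraMap A R) hR))) (by
      exact (Category.id_comp _).trans (spec_lift_comp hR))

theorem killedLift_fst : killedLift hR ≫ pullback.fst (Xp A R).hom (bi J) = 𝟙 _ := pullback.lift_fst _ _ _

theorem fst_killedLift : pullback.fst (Xp A R).hom (bi J) ≫ killedLift hR = 𝟙 _ := by
  rw [← cancel_mono (pullback.fst (Xp A R).hom (bi J)), Category.assoc, killedLift_fst, Category.comp_id,
    Category.id_comp]

theorem ext_killed {G : Over (Spec (CommRingCat.of A))} {a b : Xp A R ⟶ G} (h : red J a = red J b) : a = b := by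
  apply Over.OverMorphism.ext
  have := congrArg (fun m => killedLift hR ≫ m.left ≫ pullback.fst G.hom (bi J)) h
  simp only [red_left_fst] at this
  rwa [← Category.assoc, killedLift_fst, Category.id_comp, ← Category.assoc, killedLift_fst,
    Category.id_comp] at this

theorem exists_red_eq {G : Over (Spec (CommRingCat.of A))} (ψ : Red.bc (bi J) (Xp A R) ⟶ Red.bc (bi J) G) :
    ∃ v : Xp A R ⟶ G, red J v = ψ := by
  let v : Xp A R ⟶ G := Over.homMk (killedLift hR ≫ ψ.left ≫ pullback.fst G.hom (bi J)) (by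
    have h1 : ψ.left ≫ pullback.fst G.hom (bi J) ≫ G.hom = pullback.fst (Xp A R).hom (bi J) ≫ (Xp A R).hom := by
      rw [pullback.condition, ← Category.assoc,
        show ψ.left ≫ pullback.snd G.hom (bi J) = pullback.snd (Xp A R).hom (bi J) from Over.w ψ,
        ← pullback.condition]
    rw [Category.assoc, Category.assoc, h1, ← Category.assoc, killedLift_fst, Category.id_comp])
  refine ⟨v, Over.OverMorphism.ext (pullback.hom_ext ?_ ((Over.w (red J v)).trans (Over.w ψ).symm))⟩
  refine (red_left_fst v).trans ?_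
  show pullback.fst _ _ ≫ killedLift hR ≫ ψ.left ≫ _ = _
  rw [← Category.assoc, fst_killedLift, Category.id_comp]

end Killed

variable {D : Type u} [CommRing D] [Algebra A D] {G : Over (Spec (CommRingCat.of A))}
  (w : Red.bc (bi J) (Xp A D) ⟶ Red.bc (bi J) G)

/-- the graph -/
def gr : (Red.bc (bi J) (Xp A D)).left ⟶ (Xp A D ⊗ G).left :=
  pullback.lift (pullback.fst (Xp A D).hom (bi J)) (w.left ≫ pullback.fst G.hom (bi J)) (by
    rw [Category.assoc, pullback.condition (f := G.hom), ← Category.assoc w.left,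
      show w.left ≫ pullback.snd G.hom (bi J) = pullback.snd (Xp A D).hom (bi J) from Over.w w,
      ← pullback.condition])

theorem gr_fst : gr w ≫ (fst (Xp A D) G).left = pullback.fst (Xp A D).hom (bi J) := pullback.lift_fst _ _ _

theorem gr_snd : gr w ≫ (snd (Xp A D) G).left = w.left ≫ pullback.fst G.hom (bi J) := pullback.lift_snd _ _ _

instance isImmersion_gr : IsImmersion (gr w) := by
  haveI : IsImmersion (gr w ≫ (fst (Xp A D) G).left) := by rw [gr_fst]; infer_instance
  exact IsImmersion.of_comp (gr w) (fst (Xp A D) G).left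

instance : IsAffine (Red.bc (bi J) (Xp A D)).left :=
  inferInstanceAs (IsAffine (pullback (Xp A D).hom (bi J)))

/-- the point is on the graph modulo the thickening -/
def OnGraph {R : Type u} [CommRing R] [Algebra A R] (p : Xp A R ⟶ Xp A D ⊗ G) : Prop :=
  red J (p ≫ snd _ _) = red J (p ≫ fst _ _) ≫ w

theorem OnGraph.comp {R R' : Type u} [CommRing R] [Algebra A R] [CommRing R'] [Algebra A R']
    {p : Xp A R ⟶ Xp A D ⊗ G} (h : OnGraph w p) (f : Xp A R' ⟶ Xp A R) : OnGraph w (f ≫ p) := by
  unfold OnGraph at h ⊢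
  rw [Category.assoc, Category.assoc, red_comp, red_comp f, h, Category.assoc]

theorem inImage_of_killed {R : Type u} [CommRing R] [Algebra A R] (K : Ideal R) (p : Xp A R ⟶ Xp A D ⊗ G)
    (hK : ∀ a ∈ J, algebraMap A R a ∈ K) (hp : OnGraph w (xm (Ideal.Quotient.mkₐ A K) ≫ p)) :
    InImage (gr w) K p := by
  let R' := R ⧸ K
  have hR : ∀ a ∈ J, algebraMap A R' a = 0 := fun a ha => by
    rw [IsScalarTower.algebraMap_apply A R R', Ideal.Quotient.algebraMap_eq]
    exact Ideal.Quotient.eq_zero_iff_mem.2 (hK a ha)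
  let q := xm (Ideal.Quotient.mkₐ A K) ≫ p
  refine ⟨killedLift hR ≫ (red J (q ≫ fst _ _)).left, ?_⟩
  change (killedLift hR ≫ (red J (q ≫ fst _ _)).left) ≫ gr w = q.left
  apply pullback.hom_ext
  · show ((killedLift hR ≫ (red J (q ≫ fst _ _)).left) ≫ gr w) ≫ (fst (Xp A D) G).left =
      q.left ≫ (fst (Xp A D) G).left
    simp only [Category.assoc]
    rw [gr_fst, red_left_fst, ← Category.assoc, killedLift_fst, Category.id_comp, ← Over.comp_left]
  · show ((killedLift hR ≫ (red J (q ≫ fst _ _)).left) ≫ gr w) ≫ (snd (Xp A D) G).left =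
      q.left ≫ (snd (Xp A D) G).left
    simp only [Category.assoc]
    rw [gr_snd, ← Category.assoc (red J (q ≫ fst _ _)).left,
      show (red J (q ≫ fst _ _)).left ≫ w.left = (red J (q ≫ fst _ _) ≫ w).left from rfl,
      ← show red J (q ≫ snd _ _) = red J (q ≫ fst _ _) ≫ w from hp,
      red_left_fst, ← Category.assoc, killedLift_fst, Category.id_comp, ← Over.comp_left]

theorem inImage_map {R : Type u} [CommRing R] [Algebra A R] (p : Xp A R ⟶ Xp A D ⊗ G) (hp : OnGraph w p) :
    InImage (gr w) (J.map (algebraMap A R)) p :=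
  inImage_of_killed w _ p (fun _ ha => Ideal.mem_map_of_mem _ ha) (hp.comp w _)

theorem onGraph_of_image {R : Type u} [CommRing R] [Algebra A R] (K : Ideal R) (p : Xp A R ⟶ Xp A D ⊗ G)
    (hp : InImage (gr w) K p) :
    (∀ a ∈ J, algebraMap A R a ∈ K) ∧ OnGraph w (xm (Ideal.Quotient.mkₐ A K) ≫ p) := by
  obtain ⟨y₀, hy⟩ := hp
  let q := xm (Ideal.Quotient.mkₐ A K) ≫ p
  let y : (Xp A (R ⧸ K)).left ⟶ (Red.bc (bi J) (Xp A D)).left := y₀
  have hq : y ≫ gr w = q.left := hy
  have hfst : y ≫ pullback.fst (Xp A D).hom (bi J) = (q ≫ fst _ _).left := by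
    rw [← gr_fst w, ← Category.assoc, hq]
    rfl
  refine ⟨fun a ha => ?_, ?_⟩
  · have h1 : (y ≫ pullback.snd (Xp A D).hom (bi J)) ≫ bi J = (Xp A (R ⧸ K)).hom := by
      rw [Category.assoc, ← pullback.condition, ← Category.assoc, hfst]
      exact Over.w (q ≫ fst _ _)
    have h2 : CommRingCat.ofHom (Ideal.Quotient.mk J) ≫ Spec.preimage (y ≫ pullback.snd (Xp A D).hom (bi J)) =
        CommRingCat.ofHom (algebraMap A (R ⧸ K)) := by
      apply Spec.map_injective
      rw [Spec.map_comp, Spec.map_preimage]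
      exact h1
    have h3 := congr($(h2).hom a)
    rw [CommRingCat.hom_comp, RingHom.comp_apply, CommRingCat.hom_ofHom, CommRingCat.hom_ofHom,
      Ideal.Quotient.eq_zero_iff_mem.2 ha, map_zero, IsScalarTower.algebraMap_apply A R (R ⧸ K),
      Ideal.Quotient.algebraMap_eq] at h3
    exact Ideal.Quotient.eq_zero_iff_mem.1 h3.symm
  · have hl : (red J (q ≫ fst _ _)).left = pullback.fst (Xp A (R ⧸ K)).hom (bi J) ≫ y := by
      rw [← cancel_mono (pullback.fst (Xp A D).hom (bi J)), red_left_fst]
      exact (congrArg (pullback.fst (Xp A (R ⧸ K)).hom (bi J) ≫ ·) hfst.symm).trans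
        (Category.assoc _ _ _).symm
    refine Over.OverMorphism.ext (pullback.hom_ext ?_ ((Over.w (red J (q ≫ snd _ _))).trans
      (Over.w (red J (q ≫ fst _ _) ≫ w)).symm))
    show (red J (q ≫ snd _ _)).left ≫ pullback.fst G.hom (bi J) =
      ((red J (q ≫ fst _ _)).left ≫ w.left) ≫ pullback.fst G.hom (bi J)
    rw [red_left_fst, hl, Category.assoc, Category.assoc, ← gr_snd w]
    refine Eq.trans ?_ (Category.assoc _ _ _).symm
    refine (congrArg (pullback.fst (Xp A (R ⧸ K)).hom (bi J) ≫ ·) ?_)
    refine Eq.trans ?_ (Category.assoc y _ _)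
    rw [hq]
    rfl

end Groth.L25.TorLift
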