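import Mathlib.RingTheory.Bialgebra.Convolution
import Mathlib.RingTheory.Bialgebra.MonoidAlgebra
import Mathlib.RingTheory.Bialgebra.Equiv
import Mathlib.RingTheory.HopfAlgebra.TensorProduct
import Mathlib.RingTheory.TensorProduct.Maps
import Mathlib.GroupTheory.QuotientGroup.Basic

/-!
# Points of split Hopf algebras as characters
-/

set_option autoImplicit false
universe u

open TensorProduct WithConv

set_option linter.style.haveILetI false

noncomputable section

namespace Groth.L25.TorLift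

variable {A B : Type u} [CommRing A] [CommRing B] [HopfAlgebra A B]

/-- evaluation of a base change at a point -/
abbrev ev {L R : Type u} [CommRing L] [Algebra A L] [CommRing R] [Algebra A R] (ρ : L →ₐ[A] R)
    (x : B →ₐ[A] R) : L ⊗[A] B →ₐ[A] R :=
  Algebra.TensorProduct.lift ρ x fun _ _ => Commute.all _ _

theorem comp_ev {L R R' : Type u} [CommRing L] [Algebra A L] [CommRing R] [Algebra A R] [CommRing R'] [Algebra A R']
    (h : R →ₐ[A] R') (ρ : L →ₐ[A] R) (x : B →ₐ[A] R) : h.comp (ev ρ x) = ev (h.comp ρ) (h.comp x) :=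
  Algebra.TensorProduct.ext' fun l b => by simp [ev]

variable {S R R' : Type u} [CommRing S] [Algebra A S] [CommRing R] [Algebra A R] [CommRing R'] [Algebra A R']
  {Γ : Type u} [CommGroup Γ]

/-- evaluation of a group algebra at a character -/
def gEv (ρ : S →ₐ[A] R) (χ : Γ →* R) : MonoidAlgebra S Γ →ₐ[A] R :=
  MonoidAlgebra.liftNCAlgHom ρ χ fun _ _ => Commute.all _ _

@[simp] theorem gEv_single (ρ : S →ₐ[A] R) (χ : Γ →* R) (g : Γ) (s : S) :
    gEv ρ χ (MonoidAlgebra.single g s) = ρ s * χ g := by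
  simp [gEv]

theorem algHom_ext_single {f g : MonoidAlgebra S Γ →ₐ[A] R}
    (h : ∀ γ s, f (MonoidAlgebra.single γ s) = g (MonoidAlgebra.single γ s)) : f = g :=
  AlgHom.ext fun x => by
    induction x using MonoidAlgebra.induction_linear with
    | zero => simp
    | add p q hp hq => rw [map_add, map_add, hp, hq]
    | single γ s => exact h γ s

theorem comp_gEv (h : R →ₐ[A] R') (ρ : S →ₐ[A] R) (χ : Γ →* R) :
    h.comp (gEv ρ χ) = gEv (h.comp ρ) ((h : R →* R').comp χ) :=
  algHom_ext_single fun γ s => by simp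

theorem gEv_comp_mapAlgHom {S' : Type u} [CommRing S'] [Algebra A S'] (σ : S →ₐ[A] S') (ρ : S' →ₐ[A] R) (χ : Γ →* R) :
    (gEv ρ χ).comp (MonoidAlgebra.mapAlgHom Γ σ) = gEv (ρ.comp σ) χ :=
  algHom_ext_single fun γ s => by simp

variable (A B S Γ) in
/-- a splitting, through its points -/
structure Spl where
  /-- the coordinate map -/
  ψ : B →ₐ[A] MonoidAlgebra S Γ
  mul : ∀ (R : Type u) [CommRing R] [Algebra A R] (ρ : S →ₐ[A] R) (χ χ' : Γ →* R),
    toConv ((gEv ρ (χ * χ')).comp ψ) = toConv ((gEv ρ χ).comp ψ) * toConv ((gEv ρ χ').comp ψ)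
  one : ∀ (R : Type u) [CommRing R] [Algebra A R] (ρ : S →ₐ[A] R),
    toConv ((gEv ρ (1 : Γ →* R)).comp ψ) = 1
  bij : ∀ (R : Type u) [CommRing R] [Algebra A R] (ρ : S →ₐ[A] R),
    Function.Bijective fun χ : Γ →* R => toConv ((gEv ρ χ).comp ψ)

namespace Spl

variable (D : Spl A B S Γ)

/-- the points given by characters -/
def pt (ρ : S →ₐ[A] R) : (Γ →* R) →* WithConv (B →ₐ[A] R) where
  toFun χ := toConv ((gEv ρ χ).comp D.ψ)
  map_one' := D.one R ρ
  map_mul' := D.mul R ρ

theorem pt_ofConv (ρ : S →ₐ[A] R) (χ : Γ →* R) : (D.pt ρ χ).ofConv = (gEv ρ χ).comp D.ψ := rfl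

theorem comp_pt (h : R →ₐ[A] R') (ρ : S →ₐ[A] R) (χ : Γ →* R) :
    h.comp (D.pt ρ χ).ofConv = (D.pt (h.comp ρ) ((h : R →* R').comp χ)).ofConv := by
  rw [pt_ofConv, pt_ofConv, ← comp_gEv, AlgHom.comp_assoc]

/-- enlarge the splitting ring -/
def map {S' : Type u} [CommRing S'] [Algebra A S'] (σ : S →ₐ[A] S') : Spl A B S' Γ where
  ψ := (MonoidAlgebra.mapAlgHom Γ σ).comp D.ψ
  mul R _ _ ρ χ χ' := by
    simp only [← AlgHom.comp_assoc, gEv_comp_mapAlgHom]
    exact D.mul R _ χ χ'
  one R _ _ ρ := by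
    simp only [← AlgHom.comp_assoc, gEv_comp_mapAlgHom]
    exact D.one R _
  bij R _ _ ρ := by
    simp only [← AlgHom.comp_assoc, gEv_comp_mapAlgHom]
    exact D.bij R _

theorem pt_map {S' : Type u} [CommRing S'] [Algebra A S'] (σ : S →ₐ[A] S') (ρ : S' →ₐ[A] R) (χ : Γ →* R) :
    (D.map σ).pt ρ χ = D.pt (ρ.comp σ) χ := by
  show toConv _ = toConv _
  rw [map, ← AlgHom.comp_assoc, gEv_comp_mapAlgHom]

/-- the comparison map -/
def E : S ⊗[A] B →ₐ[A] MonoidAlgebra S Γ :=
  Algebra.TensorProduct.lift MonoidAlgebra.singleOneAlgHom D.ψ fun _ _ => Commute.all _ _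

theorem gEv_E (ρ : S →ₐ[A] R) (χ : Γ →* R) : (gEv ρ χ).comp D.E = ev ρ (D.pt ρ χ).ofConv :=
  Algebra.TensorProduct.ext' fun s b => by simp [E, ev, pt_ofConv]

end Spl

theorem isScalarTower_of_algHom (ρ : S →ₐ[A] R) :
    letI := ρ.toRingHom.toAlgebra
    IsScalarTower A S R :=
  letI := ρ.toRingHom.toAlgebra
  IsScalarTower.of_algebraMap_eq fun a => (ρ.commutes a).symm

/-- convolution is preserved on restricting points of the base change -/
theorem conv_restrict [Algebra S R] [IsScalarTower A S R] (f g : WithConv (S ⊗[A] B →ₐ[S] R)) :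
    toConv ((AlgHom.restrictScalars A (f * g).ofConv).comp Algebra.TensorProduct.includeRight) =
      toConv ((AlgHom.restrictScalars A f.ofConv).comp Algebra.TensorProduct.includeRight) *
      toConv ((AlgHom.restrictScalars A g.ofConv).comp Algebra.TensorProduct.includeRight) := by
  apply ofConv_injective
  refine AlgHom.ext fun b => ?_
  show (f * g) ((1 : S) ⊗ₜ[A] b) = (_ * _ : WithConv (B →ₐ[A] R)) b
  rw [AlgHom.convMul_apply, AlgHom.convMul_apply, TensorProduct.comul_tmul, CommSemiring.comul_apply]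
  induction Coalgebra.comul (R := A) b using TensorProduct.induction_on with
  | zero => simp
  | tmul p q => simp [AlgebraTensorModule.tensorTensorTensorComm_tmul]
  | add p q hp hq => simp only [TensorProduct.tmul_add, map_add, hp, hq]

/-- a bialgebra splitting gives the point description -/
theorem exists_spl (e : S ⊗[A] B ≃ₐc[S] MonoidAlgebra S Γ) :
    ∃ D : Spl A B S Γ, Function.Bijective D.E := by
  let eA : S ⊗[A] B →ₐ[A] MonoidAlgebra S Γ := AlgHom.restrictScalars A (e : S ⊗[A] B →ₐ[S] MonoidAlgebra S Γ)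
  let ψ : B →ₐ[A] MonoidAlgebra S Γ := eA.comp Algebra.TensorProduct.includeRight
  let E : S ⊗[A] B →ₐ[A] MonoidAlgebra S Γ :=
    Algebra.TensorProduct.lift MonoidAlgebra.singleOneAlgHom ψ fun _ _ => Commute.all _ _
  have hE : E = eA := Algebra.TensorProduct.ext' fun s b => by
    rw [Algebra.TensorProduct.lift_tmul]
    have h : s ⊗ₜ[A] b = s • ((1 : S) ⊗ₜ[A] b) := by rw [TensorProduct.smul_tmul', smul_eq_mul, mul_one]
    show _ = e (s ⊗ₜ[A] b)
    rw [h, map_smul, Algebra.smul_def]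
    rfl
  have hEbij : Function.Bijective E := by
    rw [hE]
    exact e.bijective
  have hgE : ∀ (R : Type u) [CommRing R] [Algebra A R] (ρ : S →ₐ[A] R) (χ : Γ →* R),
      (gEv ρ χ).comp E = ev ρ ((gEv ρ χ).comp ψ) := fun R _ _ ρ χ =>
    Algebra.TensorProduct.ext' fun s b => by simp [E, ev]
  refine ⟨⟨ψ, fun R _ _ ρ χ χ' => ?_, fun R _ _ ρ => ?_, fun R _ _ ρ => ⟨fun χ χ' h => ?_, fun x => ?_⟩⟩, hEbij⟩
  · letI := ρ.toRingHom.toAlgebra
    haveI := isScalarTower_of_algHom ρ
    have hl : ∀ χ : Γ →* R, gEv ρ χ = AlgHom.restrictScalars A (MonoidAlgebra.lift S R Γ χ) := fun χ =>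
      algHom_ext_single fun γ s => by simp [Algebra.smul_def]; rfl
    have hm : toConv (MonoidAlgebra.lift S R Γ (χ * χ')) =
        toConv (MonoidAlgebra.lift S R Γ χ) * toConv (MonoidAlgebra.lift S R Γ χ') := by
      apply ofConv_injective
      refine MonoidAlgebra.algHom_ext (fun γ => ?_) (by ext)
      show MonoidAlgebra.lift S R Γ (χ * χ') (MonoidAlgebra.single γ 1) =
        (_ * _ : WithConv (MonoidAlgebra S Γ →ₐ[S] R)) (MonoidAlgebra.single γ 1)
      rw [AlgHom.convMul_apply, (MonoidAlgebra.isGroupLikeElem_single_one γ).comul_eq_tmul_self]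
      simp
    have hm' := congrArg (fun f : WithConv (MonoidAlgebra S Γ →ₐ[S] R) =>
      f.ofConv.comp ((e : S ⊗[A] B →ₐc[S] MonoidAlgebra S Γ) : S ⊗[A] B →ₐ[S] MonoidAlgebra S Γ)) hm
    simp only [AlgHom.convMul_comp_bialgHom_distrib] at hm'
    have := conv_restrict (A := A)
      (toConv ((MonoidAlgebra.lift S R Γ χ).comp (e : S ⊗[A] B →ₐ[S] MonoidAlgebra S Γ)))
      (toConv ((MonoidAlgebra.lift S R Γ χ').comp (e : S ⊗[A] B →ₐ[S] MonoidAlgebra S Γ)))
    simp only [hl]
    refine Eq.trans ?_ this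
    congr 1
    exact congrArg (fun f : S ⊗[A] B →ₐ[S] R =>
      (AlgHom.restrictScalars A f).comp Algebra.TensorProduct.includeRight) hm'
  · letI := ρ.toRingHom.toAlgebra
    haveI := isScalarTower_of_algHom ρ
    apply ofConv_injective
    refine AlgHom.ext fun b => ?_
    show gEv ρ 1 (ψ b) = algebraMap A R (Coalgebra.counit b)
    have h1 : ∀ z : MonoidAlgebra S Γ, gEv ρ 1 z = ρ (Coalgebra.counit (R := S) z) := fun z => by
      induction z using MonoidAlgebra.induction_linear with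
      | zero => simp
      | add p q hp hq => rw [map_add, map_add, map_add, hp, hq]
      | single γ s => simp
    rw [h1, show ψ b = e ((1 : S) ⊗ₜ b) from rfl, CoalgHomClass.counit_comp_apply, TensorProduct.counit_tmul,
      CommSemiring.counit_apply, map_smul ρ, map_one, Algebra.smul_def, mul_one]
  · have h' : ev ρ ((gEv ρ χ).comp ψ) = ev ρ ((gEv ρ χ').comp ψ) :=
      congrArg (fun x : WithConv (B →ₐ[A] R) => ev ρ x.ofConv) h
    rw [← hgE, ← hgE] at h'
    refine MonoidHom.ext fun γ => ?_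
    obtain ⟨w, hw⟩ := hEbij.2 (MonoidAlgebra.single γ 1)
    have := AlgHom.congr_fun h' w
    simpa [hw] using this
  · let E' := AlgEquiv.ofBijective E hEbij
    let f : MonoidAlgebra S Γ →ₐ[A] R := (ev ρ x.ofConv).comp E'.symm.toAlgHom
    let χ : Γ →* R := (f : MonoidAlgebra S Γ →* R).comp (MonoidAlgebra.of S Γ)
    have hEs : ∀ s : S, E' (s ⊗ₜ[A] (1 : B)) = MonoidAlgebra.single 1 s := fun s => by
      show E (s ⊗ₜ[A] (1 : B)) = _
      simp [E]
    have hf : gEv ρ χ = f := algHom_ext_single fun γ s => by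
      have h : MonoidAlgebra.single γ s = MonoidAlgebra.single 1 s * MonoidAlgebra.single γ (1 : S) := by simp
      rw [gEv_single, h, map_mul]
      congr 1
      show ρ s = ev ρ x.ofConv (E'.symm (MonoidAlgebra.single 1 s))
      rw [← hEs, AlgEquiv.symm_apply_apply]
      simp [ev]
    refine ⟨χ, ofConv_injective (AlgHom.ext fun b => ?_)⟩
    show gEv ρ χ (ψ b) = x.ofConv b
    rw [hf]
    have hb : ψ b = E' ((1 : S) ⊗ₜ b) := by
      show _ = E ((1 : S) ⊗ₜ b)
      simp [E, ← MonoidAlgebra.one_def]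
    show ev ρ x.ofConv (E'.symm (ψ b)) = _
    rw [hb, AlgEquiv.symm_apply_apply]
    simp [ev]

end Groth.L25.TorLift
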