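import Groth.Agent.L25.TorLift.Thick
import Mathlib.AlgebraicGeometry.Group.Affine

/-!
# An affine target for points near an immersed affine scheme
-/

set_option autoImplicit false
universe u

open CategoryTheory CategoryTheory.Limits AlgebraicGeometry

set_option linter.style.haveILetI false
set_option backward.isDefEq.respectTransparency.types false

noncomputable section

namespace Groth.L25.TorLift

variable (A : Type u) [CommRing A]

/-- an affine scheme over the base -/
abbrev Xp (R : Type u) [CommRing R] [Algebra A R] : Over (Spec (CommRingCat.of A)) :=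
  (Spec (CommRingCat.of R)).asOver (Spec (CommRingCat.of A))

variable {A}

/-- the morphism of an algebra homomorphism -/
def xm {R R' : Type u} [CommRing R] [Algebra A R] [CommRing R'] [Algebra A R'] (h : R →ₐ[A] R') :
    Xp A R' ⟶ Xp A R :=
  (Spec.map (CommRingCat.ofHom h.toRingHom)).asOver _

theorem xm_left {R R' : Type u} [CommRing R] [Algebra A R] [CommRing R'] [Algebra A R'] (h : R →ₐ[A] R') :
    (xm h).left = Spec.map (CommRingCat.ofHom h.toRingHom) := rfl

theorem xm_comp {R R' R'' : Type u} [CommRing R] [Algebra A R] [CommRing R'] [Algebra A R'] [CommRing R'']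
    [Algebra A R''] (g : R' →ₐ[A] R'') (h : R →ₐ[A] R') : xm (g.comp h) = xm g ≫ xm h := by
  apply Over.OverMorphism.ext
  show Spec.map (CommRingCat.ofHom (g.comp h).toRingHom) =
    Spec.map (CommRingCat.ofHom g.toRingHom) ≫ Spec.map (CommRingCat.ofHom h.toRingHom)
  rw [← Spec.map_comp]
  rfl

theorem xm_injective {R R' : Type u} [CommRing R] [Algebra A R] [CommRing R'] [Algebra A R']
    {h h' : R →ₐ[A] R'} (e : xm h = xm h') : h = h' := by
  have := Spec.map_injective (congrArg (fun m => m.left) e)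
  exact AlgHom.coe_ringHom_injective congr($(this).hom)

theorem exists_xm {R R' : Type u} [CommRing R] [Algebra A R] [CommRing R'] [Algebra A R']
    (p : Xp A R' ⟶ Xp A R) : ∃ h : R →ₐ[A] R', xm h = p := by
  have hp : CommRingCat.ofHom (algebraMap A R) ≫ Spec.preimage p.left = CommRingCat.ofHom (algebraMap A R') := by
    apply Spec.map_injective
    rw [Spec.map_comp, Spec.map_preimage]
    exact Over.w p
  refine ⟨⟨(Spec.preimage p.left).hom, fun r => congr($(hp).hom r)⟩, Over.OverMorphism.ext ?_⟩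
  exact Spec.map_preimage p.left

theorem comp_iso_cancel {X Y Z W : Scheme.{u}} (h : X ⟶ Y) (e : Y ≅ Z) (a : Y ⟶ W) :
    (h ≫ e.hom) ≫ e.inv ≫ a = h ≫ a := by simp

theorem comp_iso_cancel' {X₀ X Y Z W : Scheme.{u}} (f : X₀ ⟶ X) (h : X ⟶ Y) (e : Y ≅ Z) (a : Y ⟶ W) :
    (f ≫ h ≫ e.hom) ≫ e.inv ≫ a = f ≫ h ≫ a := by simp

variable {P : Over (Spec (CommRingCat.of A))} {Y₀ : Scheme.{u}} (g : Y₀ ⟶ P.left)

/-- the point is in the immersed scheme modulo the ideal -/
def InImage {R : Type u} [CommRing R] [Algebra A R] (K : Ideal R) (p : Xp A R ⟶ P) : Prop :=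
  ∃ y : Spec (CommRingCat.of (R ⧸ K)) ⟶ Y₀, y ≫ g = Spec.map (CommRingCat.ofHom (Ideal.Quotient.mk K)) ≫ p.left

/-- an affine scheme receiving all infinitesimal deformations of order `n` -/
structure IsLevel (n : ℕ) {C : Type u} [CommRing C] [Algebra A C] (ι : Xp A C ⟶ P) : Prop where
  mono : Mono ι
  image : ∃ K : Ideal C, K ^ (n + 1) = ⊥ ∧ InImage g K ι
  factor : ∀ (R : Type u) [CommRing R] [Algebra A R] (K : Ideal R) (p : Xp A R ⟶ P),
    K ^ (n + 1) = ⊥ → InImage g K p → ∃ h : C →ₐ[A] R, xm h ≫ ι = p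

variable [IsImmersion g] [IsAffine Y₀]

theorem exists_levels {n m : ℕ} (hnm : n ≤ m) :
    ∃ (C₁ : Type u) (_ : CommRing C₁) (_ : Algebra A C₁) (C₂ : Type u) (_ : CommRing C₂) (_ : Algebra A C₂)
      (ι₁ : Xp A C₁ ⟶ P) (ι₂ : Xp A C₂ ⟶ P) (r : C₂ →ₐ[A] C₁),
      IsLevel g n ι₁ ∧ IsLevel g m ι₂ ∧ Function.Surjective r ∧ xm r ≫ ι₂ = ι₁ := by
  have := isAffine_thick g n
  have := isAffine_thick g m
  let str := fun k (_ : IsAffine (thick g k)) =>
    Spec.preimage (R := CommRingCat.of A) (S := Γ(thick g k, ⊤)) ((thick g k).isoSpec.inv ≫ thickι g k ≫ P.hom)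
  letI : ∀ k, [IsAffine (thick g k)] → Algebra A Γ(thick g k, ⊤) := fun k h => (str k h).hom.toAlgebra
  have hstr : ∀ k (h : IsAffine (thick g k)), (Xp A Γ(thick g k, ⊤)).hom = (thick g k).isoSpec.inv ≫ thickι g k ≫ P.hom :=
    fun k h => Spec.map_preimage _
  let ι : ∀ k, [IsAffine (thick g k)] → (Xp A Γ(thick g k, ⊤) ⟶ P) := fun k h =>
    Over.homMk ((thick g k).isoSpec.inv ≫ thickι g k) ((Category.assoc _ _ _).trans (hstr k h).symm)
  have level : ∀ k (_ : IsAffine (thick g k)), IsLevel g k (ι k) := by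
    intro k _
    constructor
    · haveI : Mono (ι k).left := inferInstanceAs (Mono ((thick g k).isoSpec.inv ≫ thickι g k))
      exact Over.mono_of_mono_left _
    · let t := toThick g k
      have hsurj : Function.Surjective t.appTop :=
        ((IsClosedImmersion.isAffine_surjective_of_isAffine t).2)
      let e := RingHom.quotientKerEquivOfSurjective hsurj
      refine ⟨RingHom.ker t.appTop.hom, ker_toThick_pow g k,
        Spec.map (CommRingCat.ofHom e.symm.toRingHom) ≫ Y₀.isoSpec.inv, ?_⟩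
      have he : CommRingCat.ofHom (Ideal.Quotient.mk (RingHom.ker t.appTop.hom)) =
          t.appTop ≫ CommRingCat.ofHom e.symm.toRingHom := by
        apply CommRingCat.hom_ext
        refine RingHom.ext fun c => ?_
        show _ = e.symm (t.appTop c)
        rw [RingEquiv.eq_symm_apply]
        rfl
      show _ = _ ≫ (thick g k).isoSpec.inv ≫ thickι g k
      rw [he, Spec.map_comp, Category.assoc, Category.assoc, Scheme.isoSpec_inv_naturality_assoc, toThick_ι]
    · intro R _ _ K p hK hp
      obtain ⟨y, hy⟩ := hp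
      obtain ⟨h, hh⟩ := exists_lift_thick g K hK p.left y hy
      let q : Xp A R ⟶ Xp A Γ(thick g k, ⊤) := Over.homMk (h ≫ (thick g k).isoSpec.hom) (by
        refine (congrArg (fun x => (h ≫ (thick g k).isoSpec.hom) ≫ x) (hstr k inferInstance)).trans ?_
        refine (comp_iso_cancel h _ _).trans ?_
        refine (Category.assoc _ _ _).symm.trans ?_
        exact (congrArg (· ≫ P.hom) hh).trans (Over.w p))
      obtain ⟨f, hf⟩ := exists_xm q
      refine ⟨f, ?_⟩
      rw [hf]
      apply Over.OverMorphism.ext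
      show (h ≫ (thick g k).isoSpec.hom) ≫ (thick g k).isoSpec.inv ≫ thickι g k = p.left
      rw [Category.assoc, Iso.hom_inv_id_assoc, hh]
  obtain ⟨k, hk, hkι⟩ := exists_closed_incl g hnm
  haveI := hk
  let q : Xp A Γ(thick g n, ⊤) ⟶ Xp A Γ(thick g m, ⊤) :=
    Over.homMk ((thick g n).isoSpec.inv ≫ k ≫ (thick g m).isoSpec.hom) (by
      refine (congrArg (fun x => ((thick g n).isoSpec.inv ≫ k ≫ (thick g m).isoSpec.hom) ≫ x)
        (hstr m inferInstance)).trans ((comp_iso_cancel' _ _ _ _).trans ?_)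
      refine Eq.trans ?_ (hstr n inferInstance).symm
      rw [← hkι, Category.assoc])
  obtain ⟨r, hr⟩ := exists_xm q
  refine ⟨_, inferInstance, inferInstance, _, inferInstance, inferInstance, ι n, ι m, r,
    level n inferInstance, level m inferInstance, ?_, ?_⟩
  · haveI : IsClosedImmersion (Spec.map (CommRingCat.ofHom r.toRingHom)) := by
      rw [← xm_left, hr]
      show IsClosedImmersion ((thick g n).isoSpec.inv ≫ k ≫ (thick g m).isoSpec.hom)
      infer_instance
    have h2 := (IsClosedImmersion.isAffine_surjective_of_isAffine (Spec.map (CommRingCat.ofHom r.toRingHom))).2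
    intro c
    obtain ⟨a, ha⟩ := h2 ((Scheme.ΓSpecIso (CommRingCat.of Γ(thick g n, ⊤))).inv c)
    refine ⟨(Scheme.ΓSpecIso (CommRingCat.of Γ(thick g m, ⊤))).hom a, ?_⟩
    have hn := congrArg (fun f => f.hom a) (Scheme.ΓSpecIso_naturality (CommRingCat.ofHom r.toRingHom))
    refine hn.symm.trans ((congrArg (Scheme.ΓSpecIso (CommRingCat.of Γ(thick g n, ⊤))).hom ha).trans ?_)
    exact congrArg (fun f => f.hom c) (Scheme.ΓSpecIso (CommRingCat.of Γ(thick g n, ⊤))).inv_hom_id
  · rw [hr]
    apply Over.OverMorphism.ext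
    show ((thick g n).isoSpec.inv ≫ k ≫ (thick g m).isoSpec.hom) ≫ (thick g m).isoSpec.inv ≫ thickι g m =
      (thick g n).isoSpec.inv ≫ thickι g n
    simp only [Category.assoc, Iso.hom_inv_id_assoc, hkι]

end Groth.L25.TorLift
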