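import Groth.Agent.L20.ThickAffine
import Mathlib.AlgebraicGeometry.Morphisms.ClosedImmersion
import Mathlib.AlgebraicGeometry.Morphisms.Immersion
import Mathlib.AlgebraicGeometry.IdealSheaf.Subscheme

/-!
# Infinitesimal thickenings of an immersed affine scheme
-/

set_option autoImplicit false
universe u

open CategoryTheory CategoryTheory.Limits AlgebraicGeometry TopologicalSpace

set_option linter.style.haveILetI false
set_option backward.isDefEq.respectTransparency.types false

noncomputable section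

namespace Groth.L25.TorLift

theorem ker_app_pow_eq_bot {R : Type u} [CommRing R] (K : Ideal R) {M : ℕ} (hK : K ^ M = ⊥)
    (W : (Spec (CommRingCat.of R)).affineOpens) :
    RingHom.ker ((Spec.map (CommRingCat.ofHom (Ideal.Quotient.mk K))).app W.1).hom ^ M = ⊥ := by
  let j := Spec.map (CommRingCat.ofHom (Ideal.Quotient.mk K))
  have key : j.ker ^ M = ⊥ := by
    apply Scheme.IdealSheafData.ext_of_isAffine
    rw [Scheme.IdealSheafData.ideal_pow, Scheme.IdealSheafData.ideal_bot]
    show (j.ker.ideal ⟨⊤, isAffineOpen_top _⟩) ^ M = ⊥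
    rw [Scheme.Hom.ker_apply]
    let e := (Scheme.ΓSpecIso (CommRingCat.of R)).commRingCatIsoToRingEquiv
    have hle : RingHom.ker j.appTop.hom ≤ K.map e.symm.toRingHom := fun s hs => by
      have h1 : e s ∈ K := by
        refine Ideal.Quotient.eq_zero_iff_mem.1 ?_
        have := congrArg (fun f => f.hom s)
          (Scheme.ΓSpecIso_naturality (CommRingCat.ofHom (Ideal.Quotient.mk K)))
        exact this.symm.trans ((congrArg (Scheme.ΓSpecIso _).hom hs).trans (map_zero _))
      simpa using Ideal.mem_map_of_mem e.symm.toRingHom h1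
    refine le_bot_iff.1 (le_trans (Ideal.pow_right_mono hle M) ?_)
    rw [← Ideal.map_pow, hK, Ideal.map_bot]
  have h2 : (j.ker ^ M).ideal W = (⊥ : (Spec (CommRingCat.of R)).IdealSheafData).ideal W := by rw [key]
  rw [Scheme.IdealSheafData.ideal_pow, Scheme.IdealSheafData.ideal_bot] at h2
  change (j.ker.ideal W) ^ M = ⊥ at h2
  rwa [Scheme.Hom.ker_apply] at h2

/-- sections vanishing on a thickened closed subscheme -/
theorem pow_le_ker {R : Type u} [CommRing R] {V : Scheme.{u}} (K : Ideal R) {M : ℕ} (hK : K ^ M = ⊥)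
    (h : Spec (CommRingCat.of R) ⟶ V) (U : V.Opens) (I : Ideal Γ(V, U))
    (hI : I ≤ RingHom.ker ((Spec.map (CommRingCat.ofHom (Ideal.Quotient.mk K)) ≫ h).app U).hom) :
    I ^ M ≤ RingHom.ker (h.app U).hom := by
  let j := Spec.map (CommRingCat.ofHom (Ideal.Quotient.mk K))
  intro s hs
  rw [RingHom.mem_ker]
  apply (Spec (CommRingCat.of R)).IsSheaf.section_ext
  intro x hx
  obtain ⟨_, ⟨W, hW, rfl⟩, hxW, hWU : W ≤ h ⁻¹ᵁ U⟩ :=
    (Spec (CommRingCat.of R)).isBasis_affineOpens.exists_subset_of_mem_open hx (h ⁻¹ᵁ U).2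
  refine ⟨W, hWU, hxW, ?_⟩
  rw [map_zero]
  let r : Γ(V, U) →+* Γ(Spec (CommRingCat.of R), W) :=
    (h.app U ≫ (Spec (CommRingCat.of R)).presheaf.map (homOfLE hWU).op).hom
  have hr : I.map r ≤ RingHom.ker (j.app W).hom := Ideal.map_le_iff_le_comap.2 fun a ha => by
    rw [Ideal.mem_comap, RingHom.mem_ker]
    have h0 : (j.app (h ⁻¹ᵁ U)) (h.app U a) = 0 := hI ha
    show (j.app W) ((Spec (CommRingCat.of R)).presheaf.map (homOfLE hWU).op (h.app U a)) = 0
    rw [← CommRingCat.comp_apply ((Spec (CommRingCat.of R)).presheaf.map (homOfLE hWU).op), j.naturality,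
      CommRingCat.comp_apply, h0, map_zero]
  have h1 : r s ∈ (I.map r) ^ M := by rw [← Ideal.map_pow]; exact Ideal.mem_map_of_mem r hs
  have h2 := Ideal.pow_right_mono hr M h1
  rw [ker_app_pow_eq_bot K hK ⟨W, hW⟩] at h2
  exact h2

section

variable {X Y₀ : Scheme.{u}} (g : Y₀ ⟶ X) [IsImmersion g]

/-- the ideal of the immersed scheme in its open neighbourhood -/
def nhdIdeal : g.coborderRange.toScheme.IdealSheafData := g.liftCoborder.ker

/-- the thickenings -/
abbrev thick (n : ℕ) : Scheme.{u} := (nhdIdeal g ^ (n + 1)).subscheme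

/-- to the ambient scheme -/
def thickι (n : ℕ) : thick g n ⟶ X := (nhdIdeal g ^ (n + 1)).subschemeι ≫ g.coborderRange.ι

instance (n : ℕ) : IsImmersion (thickι g n) := by unfold thickι; infer_instance

/-- from the immersed scheme -/
def toThick (n : ℕ) : Y₀ ⟶ thick g n :=
  IsClosedImmersion.lift (nhdIdeal g ^ (n + 1)).subschemeι g.liftCoborder (by
    rw [Scheme.IdealSheafData.ker_subschemeι]
    intro U
    exact Ideal.pow_le_self (Nat.succ_ne_zero n))

theorem toThick_fac (n : ℕ) : toThick g n ≫ (nhdIdeal g ^ (n + 1)).subschemeι = g.liftCoborder :=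
  IsClosedImmersion.lift_fac _ _ _

theorem toThick_ι (n : ℕ) : toThick g n ≫ thickι g n = g := by
  rw [thickι, ← Category.assoc, toThick_fac, Scheme.Hom.liftCoborder_ι]

instance (n : ℕ) : IsClosedImmersion (toThick g n) := by
  haveI : IsClosedImmersion (toThick g n ≫ (nhdIdeal g ^ (n + 1)).subschemeι) := by
    rw [toThick_fac]; infer_instance
  exact IsClosedImmersion.of_comp_isClosedImmersion _ (nhdIdeal g ^ (n + 1)).subschemeι

theorem surjective_toThick (n : ℕ) : Function.Surjective (toThick g n) := by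
  intro z
  let ι := (nhdIdeal g ^ (n + 1)).subschemeι
  have h1 : ι z ∈ ((nhdIdeal g ^ (n + 1)).support : Set g.coborderRange.toScheme) := by
    rw [← Scheme.IdealSheafData.range_subschemeι]; exact ⟨z, rfl⟩
  rw [Scheme.IdealSheafData.support_pow_succ] at h1
  have h0 : (nhdIdeal g).support = g.liftCoborder.ker.support := rfl
  rw [h0, Scheme.Hom.support_ker] at h1
  change ι z ∈ closure (Set.range g.liftCoborder) at h1
  rw [g.liftCoborder.isClosedEmbedding.isClosed_range.closure_eq] at h1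
  obtain ⟨y, hy⟩ := h1
  refine ⟨y, ι.isEmbedding.injective ?_⟩
  rw [← Scheme.Hom.comp_apply, toThick_fac]
  exact hy

theorem isAffine_thick [IsAffine Y₀] (n : ℕ) : IsAffine (thick g n) :=
  Groth.L20.ThickAffine.isAffine_of_surjective (toThick g n) (surjective_toThick g n)

theorem ker_toThick_pow (n : ℕ) : RingHom.ker (toThick g n).appTop.hom ^ (n + 1) = ⊥ := by
  let I := nhdIdeal g
  let ι := (I ^ (n + 1)).subschemeι
  let t := toThick g n
  have hI : ∀ U : g.coborderRange.toScheme.affineOpens,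
      I.ideal U = RingHom.ker ((t ≫ ι).app U.1).hom := by
    rw [toThick_fac]
    exact fun U => Scheme.Hom.ker_apply _ U
  refine le_bot_iff.1 fun s hs => ?_
  rw [Ideal.mem_bot]
  apply (thick g n).IsSheaf.section_ext
  intro z _
  obtain ⟨_, ⟨U, hU, rfl⟩, hzU, -⟩ :=
    g.coborderRange.toScheme.isBasis_affineOpens.exists_subset_of_mem_open (Set.mem_univ (ι z)) isOpen_univ
  refine ⟨ι ⁻¹ᵁ U, le_top, hzU, ?_⟩
  rw [map_zero]
  let r : Γ(thick g n, ⊤) →+* Γ(thick g n, ι ⁻¹ᵁ U) :=
    ((thick g n).presheaf.map (homOfLE (le_top : ι ⁻¹ᵁ U ≤ ⊤)).op).hom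
  have hr : (RingHom.ker t.appTop.hom).map r ≤ (I.ideal ⟨U, hU⟩).map (ι.app U).hom := by
    refine Ideal.map_le_iff_le_comap.2 fun a ha => ?_
    rw [Ideal.mem_comap]
    obtain ⟨b, hb⟩ := (I ^ (n + 1)).subschemeι_app_surjective ⟨U, hU⟩ (r a)
    refine hb ▸ Ideal.mem_map_of_mem _ ?_
    rw [hI ⟨U, hU⟩, RingHom.mem_ker]
    show (t.app (ι ⁻¹ᵁ U)) (ι.app U b) = 0
    erw [hb]
    show (t.app (ι ⁻¹ᵁ U)) ((thick g n).presheaf.map (homOfLE (le_top : ι ⁻¹ᵁ U ≤ ⊤)).op a) = 0
    rw [← CommRingCat.comp_apply, t.naturality, CommRingCat.comp_apply,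
      show (t.app ⊤) a = 0 from ha, map_zero]
  have h1 : r s ∈ ((RingHom.ker t.appTop.hom).map r) ^ (n + 1) := by
    rw [← Ideal.map_pow]; exact Ideal.mem_map_of_mem r hs
  have h2 := Ideal.pow_right_mono hr (n + 1) h1
  rw [← Ideal.map_pow] at h2
  have h3 : ((I.ideal ⟨U, hU⟩) ^ (n + 1)).map (ι.app U).hom = ⊥ := by
    rw [Ideal.map_eq_bot_iff_le_ker, Scheme.IdealSheafData.ker_subschemeι_app (I ^ (n + 1)) ⟨U, hU⟩]
    exact le_rfl
  rw [h3] at h2
  exact h2

theorem exists_lift_thick {R : Type u} [CommRing R] (K : Ideal R) {n : ℕ} (hK : K ^ (n + 1) = ⊥)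
    (p : Spec (CommRingCat.of R) ⟶ X) (y : Spec (CommRingCat.of (R ⧸ K)) ⟶ Y₀)
    (hy : y ≫ g = Spec.map (CommRingCat.ofHom (Ideal.Quotient.mk K)) ≫ p) :
    ∃ h : Spec (CommRingCat.of R) ⟶ thick g n, h ≫ thickι g n = p := by
  let j := Spec.map (CommRingCat.ofHom (Ideal.Quotient.mk K))
  have hj : Function.Surjective j := fun (q : PrimeSpectrum R) => by
    have : q ∈ Set.range (PrimeSpectrum.comap (Ideal.Quotient.mk K)) := by
      rw [range_comap_of_surjective _ _ Ideal.Quotient.mk_surjective]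
      intro a ha
      rw [SetLike.mem_coe, Ideal.mk_ker] at ha
      refine q.isPrime.mem_of_pow_mem (n + 1) ?_
      have := Ideal.pow_mem_pow ha (n + 1)
      rw [hK, Ideal.mem_bot] at this
      rw [this]
      exact zero_mem _
    exact this
  have hrange : Set.range p ⊆ Set.range g.coborderRange.ι := by
    rintro _ ⟨q, rfl⟩
    obtain ⟨q₀, rfl⟩ := hj q
    rw [← Scheme.Hom.comp_apply, ← hy, Scheme.Hom.comp_apply]
    exact ⟨g.liftCoborder (y q₀), by rw [← Scheme.Hom.comp_apply, g.liftCoborder_ι]⟩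
  let h' := IsOpenImmersion.lift g.coborderRange.ι p hrange
  have hh' : h' ≫ g.coborderRange.ι = p := IsOpenImmersion.lift_fac _ _ _
  have hjh : j ≫ h' = y ≫ g.liftCoborder := by
    rw [← cancel_mono g.coborderRange.ι, Category.assoc, hh', Category.assoc, Scheme.Hom.liftCoborder_ι, hy]
  have H : (nhdIdeal g ^ (n + 1)).subschemeι.ker ≤ h'.ker := by
    rw [Scheme.IdealSheafData.ker_subschemeι]
    refine Scheme.IdealSheafData.le_ofIdeals_iff.2 fun U => ?_
    refine pow_le_ker K hK h' U.1 _ ?_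
    refine le_trans (Scheme.Hom.ideal_ker_le g.liftCoborder U) ?_
    show RingHom.ker (g.liftCoborder.app U.1).hom ≤ RingHom.ker ((j ≫ h').app U.1).hom
    rw [hjh]
    intro a ha
    show (y.app (g.liftCoborder ⁻¹ᵁ U.1)) (g.liftCoborder.app U.1 a) = 0
    rw [show g.liftCoborder.app U.1 a = 0 from ha, map_zero]
  refine ⟨IsClosedImmersion.lift _ h' H, ?_⟩
  rw [thickι, ← Category.assoc, IsClosedImmersion.lift_fac, hh']

theorem exists_closed_incl {n m : ℕ} (hnm : n ≤ m) :
    ∃ k : thick g n ⟶ thick g m, IsClosedImmersion k ∧ k ≫ thickι g m = thickι g n := by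
  have hle : nhdIdeal g ^ (m + 1) ≤ nhdIdeal g ^ (n + 1) := fun U =>
    Ideal.pow_le_pow_right (Nat.succ_le_succ hnm)
  refine ⟨Scheme.IdealSheafData.inclusion hle, ?_, ?_⟩
  · haveI : IsClosedImmersion (Scheme.IdealSheafData.inclusion hle ≫ (nhdIdeal g ^ (m + 1)).subschemeι) := by
      rw [Scheme.IdealSheafData.inclusion_subschemeι]; infer_instance
    exact IsClosedImmersion.of_comp_isClosedImmersion _ (nhdIdeal g ^ (m + 1)).subschemeι
  · rw [thickι, ← Category.assoc, Scheme.IdealSheafData.inclusion_subschemeι]; rfl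

end

end Groth.L25.TorLift
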